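import Mathlib
import Cfsg.Prelude.Def_Characters
import Cfsg.Agent.Helper77.D1Defs2
import Cfsg.Agent.Helper75.RationalChar

/-!
# CALL S4442B, piece IF: the inertial automorphisms

Automorphisms `τ` of `ℂ` fixing the `M₀`-th roots of unity (`|G| ∣ p M₀`, `p ∤ M₀`) fix the
character values of `K`, act on the primitive `p`-th root `d1zeta p` through a unit `u` of
`ZMod p`, and then `τ (χ (x^i k)) = χ (x^(i u) k)`; every unit occurs; `u = 1` fixes all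
character values of `G`.
-/

universe u

set_option autoImplicit false

open Cfsg Cfsg.Agent.Helper77
open scoped ComplexConjugate

namespace Cfsg.Agent.Helper65

/-- If a primitive `m`-th root of unity is fixed by the `j`-th power map, `j ≡ 1 mod m`. -/
theorem d1if_modEq {ζ : ℂ} {m j : ℕ} (hζ : IsPrimitiveRoot ζ m) (hm : m ≠ 0) (h : ζ ^ j = ζ) :
    j ≡ 1 [MOD m] := by
  rcases Nat.eq_zero_or_pos j with hj | hj
  · subst hj
    rw [pow_zero] at h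
    have h1 : ζ ^ 1 = 1 := by rw [pow_one]; exact h.symm
    have h2 : m ∣ 1 := (hζ.pow_eq_one_iff_dvd 1).mp h1
    rw [Nat.dvd_one.mp h2]
    exact Nat.modEq_one
  · have h4 : ζ ^ (j - 1) = 1 := by
      have h5 : ζ ^ (j - 1) * ζ = 1 * ζ := by
        rw [← pow_succ, Nat.sub_add_cancel hj, one_mul]; exact h
      exact mul_right_cancel₀ (hζ.ne_zero hm) h5
    exact ((Nat.modEq_iff_dvd' hj).mpr ((hζ.pow_eq_one_iff_dvd _).mp h4)).symm

/-- The values of an irreducible character are sums of `|H|`-th roots of unity. -/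
theorem d1if_roots {H : Type u} [Group H] [Finite H] (χ : Cfsg.IrrCharacter H) (g : H) :
    ∃ s : Multiset ℂ, (∀ μ ∈ s, μ ^ Nat.card H = 1) ∧ (χ : H → ℂ) g = s.sum := by
  obtain ⟨n, ρ, -, hρ⟩ := χ.2
  have hm : Nat.card H ≠ 0 := Nat.card_pos.ne'
  have hf : (ρ g) ^ Nat.card H = 1 := by rw [← map_pow, pow_card_eq_one', map_one]
  obtain ⟨s, hs1, -, hs3⟩ := Cfsg.Agent.Helper75.exists_eigen_multiset (ρ g) (Nat.card H) hm hf
  have h1 := hs3 1
  simp only [pow_one, Multiset.map_id'] at h1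
  exact ⟨s, hs1, by rw [← hρ]; exact h1⟩

/-- An automorphism fixing the `|H|`-th roots of unity fixes the irreducible character values. -/
theorem d1if_fix {H : Type u} [Group H] [Finite H] (τ : ℂ ≃+* ℂ)
    (hτ : ∀ μ : ℂ, μ ^ Nat.card H = 1 → τ μ = μ) (χ : Cfsg.IrrCharacter H) (g : H) :
    τ ((χ : H → ℂ) g) = (χ : H → ℂ) g := by
  obtain ⟨s, hs, hχ⟩ := d1if_roots χ g
  rw [hχ, map_multiset_sum, Multiset.map_congr rfl (fun μ hμ => hτ μ (hs μ hμ)),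
    Multiset.map_id']

/-- An automorphism acting as the `j`-th power on `|H|`-th roots of unity sends `χ g` to
`χ (g ^ j)`. -/
theorem d1if_pow {H : Type u} [Group H] [Finite H] (τ : ℂ ≃+* ℂ) (j : ℕ)
    (hτ : ∀ z : ℂ, z ^ Nat.card H = 1 → τ z = z ^ j) (χ : Cfsg.IrrCharacter H) (g : H) :
    τ ((χ : H → ℂ) g) = (χ : H → ℂ) (g ^ j) := by
  obtain ⟨n, ρ, -, hρ⟩ := χ.2
  rw [← hρ]
  exact (Cfsg.Agent.Helper75.character_pow_eq ρ τ j hτ g).symm

/-- Powers of `x ^ i * k` for `k ∈ K` commuting with `x` of order `p`. -/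
theorem d1if_group {G : Type u} [Group G] [Finite G] {p : ℕ} {x : G} (hx : orderOf x = p)
    (K : Subgroup G) (k : K) (hk : (k : G) * x = x * (k : G)) (i j j₀ : ℕ)
    (hj : j ≡ j₀ [MOD p]) (hj1 : j ≡ 1 [MOD Nat.card K]) :
    (x ^ i * (k : G)) ^ j = x ^ (i * j₀) * (k : G) := by
  have hc : Commute (x ^ i) (k : G) :=
    (Commute.pow_right (show Commute (k : G) x from hk) i).symm
  rw [hc.mul_pow, ← pow_mul]
  have hxp : x ^ p = 1 := by rw [← hx]; exact pow_orderOf_eq_one x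
  have hkK : (k : G) ^ Nat.card K = 1 := by
    have h1 : k ^ Nat.card K = 1 := pow_card_eq_one'
    rw [← Subgroup.coe_pow, h1, Subgroup.coe_one]
  have h1 : x ^ (i * j) = x ^ (i * j₀) := by
    rw [pow_eq_pow_mod (i * j) hxp, pow_eq_pow_mod (i * j₀) hxp]
    congr 1
    exact Nat.ModEq.mul_left i hj
  have h2 : (k : G) ^ j = (k : G) := by
    rw [pow_eq_pow_mod j hkK, show j % Nat.card K = 1 % Nat.card K from hj1,
      ← pow_eq_pow_mod 1 hkK, pow_one]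
  rw [h1, h2]

variable {G : Type u} [Group G] [Finite G]

theorem d1_inertial (p : ℕ) [Fact p.Prime] (x : G) (K : Subgroup G) (h : D1Hyp p x K)
    (M₀ : ℕ) (hM₀ : ¬ p ∣ M₀) (hGM : Nat.card G ∣ p * M₀) :
    (∀ τ : ℂ ≃+* ℂ, (∀ w : ℂ, w ^ M₀ = 1 → τ w = w) →
      (∀ (θ : Cfsg.IrrCharacter K) (k : K), τ ((θ : K → ℂ) k) = (θ : K → ℂ) k) ∧
      ∃ u : (ZMod p)ˣ, τ (d1zeta p) = d1zeta p ^ (u : ZMod p).val ∧
        ∀ (χ : Cfsg.IrrCharacter G) (i : ℕ) (k : K),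
          τ ((χ : G → ℂ) (x ^ i * (k : G))) = (χ : G → ℂ) (x ^ (i * (u : ZMod p).val) * (k : G))) ∧
    (∀ u : (ZMod p)ˣ, ∃ τ : ℂ ≃+* ℂ, (∀ w : ℂ, w ^ M₀ = 1 → τ w = w) ∧
      τ (d1zeta p) = d1zeta p ^ (u : ZMod p).val ∧
        ∀ (χ : Cfsg.IrrCharacter G) (i : ℕ) (k : K),
          τ ((χ : G → ℂ) (x ^ i * (k : G))) = (χ : G → ℂ) (x ^ (i * (u : ZMod p).val) * (k : G))) ∧
    (∀ τ : ℂ ≃+* ℂ, (∀ w : ℂ, w ^ M₀ = 1 → τ w = w) → τ (d1zeta p) = d1zeta p →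
      ∀ (χ : Cfsg.IrrCharacter G) (g : G), τ ((χ : G → ℂ) g) = (χ : G → ℂ) g) := by
  have hp : p.Prime := Fact.out
  have hM₀0 : M₀ ≠ 0 := by rintro rfl; exact hM₀ (dvd_zero p)
  have hN : p * M₀ ≠ 0 := Nat.mul_ne_zero hp.ne_zero hM₀0
  have hcop : Nat.Coprime p M₀ := (Nat.Prime.coprime_iff_not_dvd hp).mpr hM₀
  have hKM : Nat.card K ∣ M₀ := by
    have h1 : Nat.card K ∣ p * M₀ := (Subgroup.card_subgroup_dvd_card K).trans hGM
    have h2 : Nat.Coprime (Nat.card K) p :=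
      Nat.Coprime.symm ((Nat.Prime.coprime_iff_not_dvd hp).mpr h.hK)
    exact h2.dvd_of_dvd_mul_left h1
  have hζ : IsPrimitiveRoot (d1zeta p) p := Complex.isPrimitiveRoot_exp p hp.ne_zero
  have hζp : d1zeta p ^ p = 1 := hζ.pow_eq_one
  have hζN : d1zeta p ^ (p * M₀) = 1 := by rw [pow_mul, hζp, one_pow]
  have hcomm : ∀ k : K, (k : G) * x = x * (k : G) :=
    fun k => (h.hC k).mpr ⟨0, k, k.2, by simp⟩
  have hGN : ∀ z : ℂ, z ^ Nat.card G = 1 → z ^ (p * M₀) = 1 := by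
    intro z hz
    obtain ⟨t, ht⟩ := hGM
    rw [ht, pow_mul, hz, one_pow]
  have hKM' : ∀ z : ℂ, z ^ Nat.card K = 1 → z ^ M₀ = 1 := by
    intro z hz
    obtain ⟨t, ht⟩ := hKM
    rw [ht, pow_mul, hz, one_pow]
  have key : ∀ τ : ℂ ≃+* ℂ, (∀ w : ℂ, w ^ M₀ = 1 → τ w = w) →
      ∃ j : ℕ, Nat.Coprime j (p * M₀) ∧ (∀ z : ℂ, z ^ (p * M₀) = 1 → τ z = z ^ j) ∧
        j ≡ 1 [MOD M₀] := by
    intro τ hτ
    obtain ⟨j, hjcop, hj⟩ := Cfsg.Agent.Helper75.exists_pow_of_ringEquiv τ (p * M₀) hN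
    refine ⟨j, hjcop, hj, ?_⟩
    have hξ := Complex.isPrimitiveRoot_exp M₀ hM₀0
    have h1 := hξ.pow_eq_one
    have h2 : Complex.exp (2 * ↑Real.pi * Complex.I / ↑M₀) ^ (p * M₀) = 1 := by
      rw [pow_mul', h1, one_pow]
    exact d1if_modEq hξ hM₀0 (by rw [← hj _ h2, hτ _ h1])
  refine ⟨?_, ?_, ?_⟩
  · intro τ hτ
    obtain ⟨j, hjcop, hj, hj1⟩ := key τ hτ
    refine ⟨fun θ k => d1if_fix τ (fun μ hμ => hτ μ (hKM' μ hμ)) θ k, ?_⟩
    have hjp : Nat.Coprime j p := Nat.Coprime.coprime_dvd_right (dvd_mul_right p M₀) hjcop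
    refine ⟨ZMod.unitOfCoprime j hjp, ?_, ?_⟩
    · rw [hj _ hζN, ZMod.coe_unitOfCoprime, ZMod.val_natCast]
      exact pow_eq_pow_mod j hζp
    · intro χ i k
      rw [d1if_pow τ j (fun z hz => hj z (hGN z hz)) χ (x ^ i * (k : G))]
      rw [ZMod.coe_unitOfCoprime, ZMod.val_natCast]
      exact congrArg (χ : G → ℂ) (d1if_group h.hx K k (hcomm k) i j (j % p)
        (Nat.mod_modEq j p).symm (hj1.of_dvd hKM))
  · intro u
    have hu : Nat.Coprime (u : ZMod p).val p := ZMod.val_coe_unit_coprime u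
    obtain ⟨j', hj'p, hj'M⟩ := Nat.chineseRemainder hcop (u : ZMod p).val 1
    have hj'cop : Nat.Coprime j' (p * M₀) := by
      apply Nat.Coprime.mul_right
      · unfold Nat.Coprime at hu ⊢
        rw [hj'p.gcd_eq]; exact hu
      · unfold Nat.Coprime
        rw [hj'M.gcd_eq]; exact Nat.gcd_one_left M₀
    obtain ⟨τ, hτ⟩ := Cfsg.Agent.Helper75.exists_ringEquiv_pow (p * M₀) hN j' hj'cop
    refine ⟨τ, ?_, ?_, ?_⟩
    · intro w hw
      have hwN : w ^ (p * M₀) = 1 := by rw [pow_mul', hw, one_pow]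
      rw [hτ w hwN, pow_eq_pow_mod j' hw, show j' % M₀ = 1 % M₀ from hj'M,
        ← pow_eq_pow_mod 1 hw, pow_one]
    · rw [hτ _ hζN, pow_eq_pow_mod j' hζp, show j' % p = (u : ZMod p).val % p from hj'p,
        ← pow_eq_pow_mod _ hζp]
    · intro χ i k
      rw [d1if_pow τ j' (fun z hz => hτ z (hGN z hz)) χ (x ^ i * (k : G))]
      exact congrArg (χ : G → ℂ) (d1if_group h.hx K k (hcomm k) i j' _ hj'p
        (hj'M.of_dvd hKM))
  · intro τ hτ hτζ χ g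
    obtain ⟨j, hjcop, hj, hj1⟩ := key τ hτ
    have hjp : j ≡ 1 [MOD p] := d1if_modEq hζ hp.ne_zero (by rw [← hj _ hζN, hτζ])
    have hjN : j ≡ 1 [MOD p * M₀] :=
      (Nat.modEq_and_modEq_iff_modEq_mul hcop).mp ⟨hjp, hj1⟩
    apply d1if_fix τ _ χ g
    intro μ hμ
    have hμN := hGN μ hμ
    rw [hj μ hμN, pow_eq_pow_mod j hμN, show j % (p * M₀) = 1 % (p * M₀) from hjN,
      ← pow_eq_pow_mod 1 hμN, pow_one]

end Cfsg.Agent.Helper65
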