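import Mathlib
import Cfsg.Prelude.Def_GeometricClasses
import Cfsg.Prelude.Def_Classical

set_option autoImplicit false

/-!
# CALL TS, stage OB (`ts_odd_bad`), sub-CALL of helper65: definitions

`HSp n F = F^n × F^n` with the hyperbolic quadratic form `hq (a, b) = a ⬝ᵥ b`.
`HypFam Q e f`: `e, f : Fin n → ι → F` is a hyperbolic family for the (bundled) quadratic form `Q`.
`hE e f : HSp n F →ₗ V`, `(a, b) ↦ Σ a_k e_k + Σ b_k f_k`;
`hP Q e f : V →ₗ HSp n F`, `v ↦ (polar v f_k, polar v e_k)`;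
`hExt Q e f Z = 1 + E (Z - 1) P`: the extension to `V` (by the identity on the orthogonal
complement of the hyperbolic family) of an endomorphism `Z` of the coordinate space.
-/

namespace Cfsg.Agent.Helper65.TSOB

variable {ι : Type} {F : Type*} [Field F]

/-- the hyperbolic coordinate space `F^n × F^n` -/
abbrev HSp (n : ℕ) (F : Type*) [Field F] : Type _ := (Fin n → F) × (Fin n → F)

/-- its quadratic form `(a, b) ↦ a ⬝ᵥ b` -/
def hq {n : ℕ} (u : HSp n F) : F := u.1 ⬝ᵥ u.2

/-- a hyperbolic family of `n` pairs for the quadratic form `Q` -/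
structure HypFam (Q : QuadraticForm F (ι → F)) {n : ℕ} (e f : Fin n → ι → F) : Prop where
  qe : ∀ k, Q (e k) = 0
  qf : ∀ k, Q (f k) = 0
  ee : ∀ j k, QuadraticMap.polar Q (e j) (e k) = 0
  ff : ∀ j k, QuadraticMap.polar Q (f j) (f k) = 0
  ef : ∀ j k, QuadraticMap.polar Q (e j) (f k) = if j = k then 1 else 0

/-- `E (a, b) = Σ a_k e_k + Σ b_k f_k` -/
noncomputable def hE {n : ℕ} (e f : Fin n → ι → F) : HSp n F →ₗ[F] (ι → F) :=
  (Fintype.linearCombination F e).coprod (Fintype.linearCombination F f)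

/-- `P v = (k ↦ polar v (f k), k ↦ polar v (e k))` -/
noncomputable def hP (Q : QuadraticForm F (ι → F)) {n : ℕ} (e f : Fin n → ι → F) :
    (ι → F) →ₗ[F] HSp n F :=
  LinearMap.prod (LinearMap.pi fun k => (QuadraticMap.polarBilin Q).flip (f k))
    (LinearMap.pi fun k => (QuadraticMap.polarBilin Q).flip (e k))

/-- the extension `1 + E (Z - 1) P` of an endomorphism `Z` of the hyperbolic coordinate space -/
noncomputable def hExt (Q : QuadraticForm F (ι → F)) {n : ℕ} (e f : Fin n → ι → F)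
    (Z : HSp n F →ₗ[F] HSp n F) : (ι → F) →ₗ[F] (ι → F) :=
  LinearMap.id + hE e f ∘ₗ (Z - LinearMap.id) ∘ₗ hP Q e f

theorem hE_apply {n : ℕ} (e f : Fin n → ι → F) (u : HSp n F) :
    hE e f u = ∑ k, u.1 k • e k + ∑ k, u.2 k • f k := by
  simp [hE, LinearMap.coprod_apply, Fintype.linearCombination_apply]

theorem hP_apply_fst (Q : QuadraticForm F (ι → F)) {n : ℕ} (e f : Fin n → ι → F) (v : ι → F)
    (k : Fin n) : (hP Q e f v).1 k = QuadraticMap.polar Q v (f k) := rfl

theorem hP_apply_snd (Q : QuadraticForm F (ι → F)) {n : ℕ} (e f : Fin n → ι → F) (v : ι → F)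
    (k : Fin n) : (hP Q e f v).2 k = QuadraticMap.polar Q v (e k) := rfl

theorem hExt_apply (Q : QuadraticForm F (ι → F)) {n : ℕ} (e f : Fin n → ι → F)
    (Z : HSp n F →ₗ[F] HSp n F) (v : ι → F) :
    hExt Q e f Z v = v + hE e f (Z (hP Q e f v) - hP Q e f v) := rfl

theorem hExt_id (Q : QuadraticForm F (ι → F)) {n : ℕ} (e f : Fin n → ι → F) :
    hExt Q e f LinearMap.id = LinearMap.id := by
  refine LinearMap.ext fun v => ?_
  rw [hExt_apply]
  simp

end Cfsg.Agent.Helper65.TSOB
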