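-- helper65 library: core of PIECE S2 of CALL S0999 (helper9, Brauer-Reynolds): stage alpha, t = 2.
import Cfsg.Agent.Helper9.BRDefs
import Cfsg.Agent.Helper8.BRSplit
import Cfsg.Agent.Helper41.BRK2
import Cfsg.Agent.Helper19.BRNum
import Cfsg.Agent.Helper81.SectionChar
import Cfsg.Agent.Helper80.CharIrr

set_option autoImplicit false
open Cfsg
open scoped ComplexConjugate

universe u

namespace Cfsg.Agent.Helper65

/-- Stage alpha of Brauer-Reynolds with the three block facts T1, T3, T4 as hypotheses. -/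
theorem br_stage_alpha_core {G : Type u} [Group G] [Fintype G] {p : ℕ} [Fact p.Prime]
    {M : Ideal Cfsg.AlgInt}
    (P : Sylow p G) (hP : Nat.card (P : Subgroup G) = p)
    (q t a : ℕ) (T : Cfsg.Agent.Helper9.BRTab p M P q) (ht : 2 ≤ t) (hqt : q * t = p - 1)
    (ha : 1 ≤ a) (hqa : q = 1 + a * t) (hε : T.ε = 1)
    (hX1 : ∀ χ ∈ T.X1, Cfsg.charDegree (χ : G → ℂ) = 1 + (t - 1) * p)
    (hX2 : ∀ χ ∈ T.X2, Cfsg.charDegree (χ : G → ℂ) = p - 1)
    (hY : ∀ θ ∈ T.Y, Cfsg.charDegree (θ : G → ℂ) = q)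
    (hT1 : ∀ y : G, y ∈ (P : Subgroup G) → y ≠ 1 →
      ∑ θ ∈ T.Y, (θ : G → ℂ) y = -(T.ε : ℂ))
    (hT3 : ∀ χ : Cfsg.IrrCharacter G, χ ∉ Cfsg.principalBlock M G →
      ∀ y : G, y ∈ (P : Subgroup G) → y ≠ 1 → (χ : G → ℂ) y = 0)
    (hT4 : ∀ y : G, y ∈ (P : Subgroup G) → y ≠ 1 →
      ∑ θ ∈ T.Y, (θ : G → ℂ) y * conj ((θ : G → ℂ) y) = (p : ℂ) - (q : ℂ)) : t = 2 := by
  classical
  have hpp : p.Prime := Fact.out
  have hp1 : 1 ≤ p := hpp.one_lt.le
  have hqpos : 0 < q := by omega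
  have hpeq : p = t * q + 1 := by
    have : q * t = t * q := Nat.mul_comm q t
    omega
  have : Fintype (Cfsg.IrrCharacter G) := Fintype.ofFinite _
  have hpC : (p : ℂ) ≠ 0 := by exact_mod_cast hpp.ne_zero
  have hnotdvd : ¬ p ∣ orderOf (1 : G) := by
    rw [orderOf_one]
    exact hpp.not_dvd_one
  -- the set P as a finset
  set S : Finset G := Finset.univ.filter (fun x => x ∈ (P : Subgroup G)) with hS
  have hmemS : ∀ x, x ∈ S ↔ x ∈ (P : Subgroup G) := by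
    intro x
    simp [hS]
  have h1S : (1 : G) ∈ S := (hmemS 1).mpr (one_mem _)
  have hScard : S.card = p := by
    rw [← hP, Nat.card_eq_fintype_card, Fintype.card_subtype]
  have hS'card : (S.erase 1).card = p - 1 := by
    rw [Finset.card_erase_of_mem h1S, hScard]
  have hmemS' : ∀ x ∈ S.erase 1, x ∈ (P : Subgroup G) ∧ x ≠ 1 := by
    intro x hx
    rw [Finset.mem_erase] at hx
    exact ⟨(hmemS x).mp hx.2, hx.1⟩
  -- multiplicities of the trivial character of P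
  have hm : ∀ χ : Cfsg.IrrCharacter G, ∃ m : ℕ, ∑ x ∈ S, (χ : G → ℂ) x = (p : ℂ) * m := by
    intro χ
    obtain ⟨n, hn⟩ := Helper81.exists_linMult χ (P : Subgroup G).subtype
      (1 : ↥(P : Subgroup G) →* ℂˣ)
    refine ⟨n, ?_⟩
    rw [Finset.sum_subtype S hmemS]
    rw [← Nat.card_eq_fintype_card, hP] at hn
    rw [← hn]
    refine Finset.sum_congr rfl (fun x _ => ?_)
    simp
  choose m hm using hm
  obtain ⟨c, hc1, hc⟩ := Helper41.br_theta_decomp T.Y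
  have hYcard : T.Y.card = t := by
    rw [T.hcardY, ← hqt, Nat.mul_div_cancel_left t hqpos]
  rw [hYcard] at hc1
  have hd1 : ∀ χ : Cfsg.IrrCharacter G,
      (χ : G → ℂ) 1 = (Cfsg.charDegree (χ : G → ℂ) : ℂ) := fun χ => Helper80.irr_one_eq χ
  -- value at 1
  have hYat1 : ∑ θ ∈ T.Y, (θ : G → ℂ) 1 * conj ((θ : G → ℂ) 1) = (t : ℂ) * (q : ℂ) ^ 2 := by
    have h1 : ∀ θ ∈ T.Y, (θ : G → ℂ) 1 * conj ((θ : G → ℂ) 1) = (q : ℂ) ^ 2 := by
      intro θ hθ
      rw [hd1 θ, hY θ hθ, Complex.conj_natCast]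
      ring
    rw [Finset.sum_congr rfl h1, Finset.sum_const, hYcard, nsmul_eq_mul]
  have hI : ∑ᶠ χ : Cfsg.IrrCharacter G, (c χ : ℂ) * (Cfsg.charDegree (χ : G → ℂ) : ℂ)
      = (t : ℂ) * (q : ℂ) ^ 2 := by
    rw [← hYat1, hc 1]
    refine finsum_congr (fun χ => ?_)
    rw [hd1 χ]
  have hII : ∑ᶠ χ : Cfsg.IrrCharacter G, (c χ : ℂ) * ((p : ℂ) * (m χ : ℂ))
      = (t : ℂ) * (q : ℂ) ^ 2 + ((p : ℂ) - 1) * ((p : ℂ) - q) := by
    have h1 : ∑ x ∈ S, ∑ θ ∈ T.Y, (θ : G → ℂ) x * conj ((θ : G → ℂ) x)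
        = (t : ℂ) * (q : ℂ) ^ 2 + ((p : ℂ) - 1) * ((p : ℂ) - q) := by
      rw [← Finset.add_sum_erase S _ h1S, hYat1]
      congr 1
      rw [Finset.sum_congr rfl (fun x hx => hT4 x (hmemS' x hx).1 (hmemS' x hx).2),
        Finset.sum_const, hS'card, nsmul_eq_mul, Nat.cast_sub hp1, Nat.cast_one]
    rw [← h1, Finset.sum_congr rfl (fun x _ => hc x), finsum_eq_sum_of_fintype]
    simp_rw [finsum_eq_sum_of_fintype]
    rw [Finset.sum_comm]
    refine Finset.sum_congr rfl (fun χ _ => ?_)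
    rw [← Finset.mul_sum, hm χ]
  set K : Finset (Cfsg.IrrCharacter G) :=
    Finset.univ.filter (fun χ => χ ∉ Cfsg.principalBlock M G) with hKdef
  have hK : ∀ χ : Cfsg.IrrCharacter G, χ ∈ K ↔ χ ∉ Cfsg.principalBlock M G := by
    intro χ
    simp [hKdef]
  rw [Helper8.br_sum_split T K hK] at hI hII
  -- the multiplicities
  have hm_triv : m (Helper81.trivIrr G) = 1 := by
    have h := hm (Helper81.trivIrr G)
    simp only [Helper81.trivIrr_apply, Finset.sum_const, nsmul_eq_mul, mul_one, hScard] at h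
    have h2 : (p : ℂ) * 1 = (p : ℂ) * (m (Helper81.trivIrr G) : ℂ) := by
      rw [mul_one]
      exact h
    have h3 := mul_left_cancel₀ hpC h2
    exact_mod_cast h3.symm
  have hd_triv : Cfsg.charDegree (Helper81.trivIrr G : G → ℂ) = 1 := by
    have h := hd1 (Helper81.trivIrr G)
    rw [Helper81.trivIrr_apply] at h
    exact_mod_cast h.symm
  have hmX1 : ∀ χ ∈ T.X1, m χ = t := by
    intro χ hχ
    have h := hm χ
    rw [← Finset.add_sum_erase S _ h1S, hd1 χ] at h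
    have h2 : ∀ x ∈ S.erase 1, (χ : G → ℂ) x = 1 := by
      intro x hx
      have := (T.hX1 χ hχ).2 x (hmemS' x hx).1 (hmemS' x hx).2 1 (one_mem _) hnotdvd
      rwa [mul_one] at this
    rw [Finset.sum_congr rfl h2, Finset.sum_const, hS'card, nsmul_eq_mul, mul_one,
      hX1 χ hχ] at h
    have h3 : (1 + (t - 1) * p) + (p - 1) = p * m χ := by exact_mod_cast h
    have h5 : p * m χ = p * t := by
      rw [← h3]
      obtain ⟨t', rfl⟩ : ∃ t', t = t' + 1 := ⟨t - 1, by omega⟩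
      simp only [Nat.add_sub_cancel]
      have h6 : 1 + t' * p + (p - 1) = t' * p + p := by omega
      rw [h6]
      ring
    exact Nat.eq_of_mul_eq_mul_left (by omega) h5
  have hmX2 : ∀ χ ∈ T.X2, m χ = 0 := by
    intro χ hχ
    have h := hm χ
    rw [← Finset.add_sum_erase S _ h1S, hd1 χ] at h
    have h2 : ∀ x ∈ S.erase 1, (χ : G → ℂ) x = -1 := by
      intro x hx
      have := (T.hX2 χ hχ).2 x (hmemS' x hx).1 (hmemS' x hx).2 1 (one_mem _) hnotdvd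
      rwa [mul_one] at this
    rw [Finset.sum_congr rfl h2, Finset.sum_const, hS'card, nsmul_eq_mul, hX2 χ hχ] at h
    have h5 : (p : ℂ) * (m χ : ℂ) = 0 := by
      rw [← h]
      ring
    rcases mul_eq_zero.mp h5 with h6 | h6
    · exact absurd h6 hpC
    · exact_mod_cast h6
  have hmY : ∀ θ ∈ T.Y, m θ = 0 := by
    have h1 : ∑ θ ∈ T.Y, (p : ℂ) * (m θ : ℂ) = 0 := by
      rw [← Finset.sum_congr rfl (fun θ _ => hm θ), Finset.sum_comm,
        ← Finset.add_sum_erase S _ h1S]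
      rw [Finset.sum_congr rfl (fun x hx => hT1 x (hmemS' x hx).1 (hmemS' x hx).2),
        Finset.sum_const, hS'card, nsmul_eq_mul, hε]
      have h2 : ∑ θ ∈ T.Y, (θ : G → ℂ) 1 = (t : ℂ) * q := by
        have h3 : ∀ θ ∈ T.Y, (θ : G → ℂ) 1 = (q : ℂ) := by
          intro θ hθ
          rw [hd1 θ, hY θ hθ]
        rw [Finset.sum_congr rfl h3, Finset.sum_const, hYcard, nsmul_eq_mul]
      rw [h2]
      have h3 : ((p - 1 : ℕ) : ℂ) = (q : ℂ) * t := by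
        rw [← hqt]
        push_cast
        ring
      rw [h3]
      push_cast
      ring
    have h2 : ∑ θ ∈ T.Y, m θ = 0 := by
      rw [← Finset.mul_sum] at h1
      rcases mul_eq_zero.mp h1 with h | h
      · exact absurd h hpC
      · exact_mod_cast h
    intro θ hθ
    exact (Finset.sum_eq_zero_iff.mp h2) θ hθ
  have hmK : ∀ χ ∈ K, Cfsg.charDegree (χ : G → ℂ) = p * m χ := by
    intro χ hχ
    have h := hm χ
    rw [← Finset.add_sum_erase S _ h1S, hd1 χ] at h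
    rw [Finset.sum_congr rfl
      (fun x hx => hT3 χ ((hK χ).mp hχ) x (hmemS' x hx).1 (hmemS' x hx).2),
      Finset.sum_const_zero, add_zero] at h
    exact_mod_cast h
  -- the two counting equations
  have eA1 : ∑ χ ∈ T.X1, (c χ : ℂ) * (Cfsg.charDegree (χ : G → ℂ) : ℂ)
      = (((1 + (t - 1) * p) * ∑ χ ∈ T.X1, c χ : ℕ) : ℂ) := by
    rw [Finset.sum_congr rfl (fun χ hχ => by rw [hX1 χ hχ]), ← Finset.sum_mul]
    push_cast
    ring
  have eB1 : ∑ χ ∈ T.X2, (c χ : ℂ) * (Cfsg.charDegree (χ : G → ℂ) : ℂ)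
      = (((p - 1) * ∑ χ ∈ T.X2, c χ : ℕ) : ℂ) := by
    rw [Finset.sum_congr rfl (fun χ hχ => by rw [hX2 χ hχ]), ← Finset.sum_mul,
      Nat.cast_mul, Nat.cast_sum]
    ring
  have eC1 : ∑ χ ∈ T.Y, (c χ : ℂ) * (Cfsg.charDegree (χ : G → ℂ) : ℂ)
      = ((q * ∑ χ ∈ T.Y, c χ : ℕ) : ℂ) := by
    rw [Finset.sum_congr rfl (fun χ hχ => by rw [hY χ hχ]), ← Finset.sum_mul,
      Nat.cast_mul, Nat.cast_sum]
    ring
  have eW1 : ∑ χ ∈ K, (c χ : ℂ) * (Cfsg.charDegree (χ : G → ℂ) : ℂ)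
      = ((p * ∑ χ ∈ K, c χ * m χ : ℕ) : ℂ) := by
    rw [Finset.sum_congr rfl (fun χ hχ => by rw [hmK χ hχ]), Nat.cast_mul, Nat.cast_sum,
      Finset.mul_sum]
    refine Finset.sum_congr rfl (fun χ _ => ?_)
    push_cast
    ring
  have h1 : t * q ^ 2 = t + (1 + (t - 1) * p) * (∑ χ ∈ T.X1, c χ)
      + (p - 1) * (∑ χ ∈ T.X2, c χ) + q * (∑ χ ∈ T.Y, c χ) + p * (∑ χ ∈ K, c χ * m χ) := by
    rw [eA1, eB1, eC1, eW1, hc1, hd_triv] at hI
    have h := hI.symm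
    rw [Nat.cast_one, mul_one] at h
    exact_mod_cast h
  have eA2 : ∑ χ ∈ T.X1, (c χ : ℂ) * ((p : ℂ) * (m χ : ℂ))
      = (p : ℂ) * ((t * ∑ χ ∈ T.X1, c χ : ℕ) : ℂ) := by
    rw [Finset.sum_congr rfl (fun χ hχ => by rw [hmX1 χ hχ]), ← Finset.sum_mul]
    push_cast
    ring
  have eB2 : ∑ χ ∈ T.X2, (c χ : ℂ) * ((p : ℂ) * (m χ : ℂ)) = 0 := by
    apply Finset.sum_eq_zero
    intro χ hχ
    rw [hmX2 χ hχ]
    simp
  have eC2 : ∑ χ ∈ T.Y, (c χ : ℂ) * ((p : ℂ) * (m χ : ℂ)) = 0 := by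
    apply Finset.sum_eq_zero
    intro χ hχ
    rw [hmY χ hχ]
    simp
  have eW2 : ∑ χ ∈ K, (c χ : ℂ) * ((p : ℂ) * (m χ : ℂ))
      = (p : ℂ) * ((∑ χ ∈ K, c χ * m χ : ℕ) : ℂ) := by
    rw [Nat.cast_sum, Finset.mul_sum]
    refine Finset.sum_congr rfl (fun χ _ => ?_)
    push_cast
    ring
  have h2 : t * q = t + t * (∑ χ ∈ T.X1, c χ) + ∑ χ ∈ K, c χ * m χ := by
    rw [eA2, eB2, eC2, eW2, hc1, hm_triv] at hII
    have h3 : ((p : ℂ) - 1) = (q : ℂ) * t := by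
      rw [← Nat.cast_one, ← Nat.cast_sub hp1, ← hqt]
      push_cast
      ring
    rw [h3] at hII
    have h4 : (p : ℂ) * (((t + t * (∑ χ ∈ T.X1, c χ) + ∑ χ ∈ K, c χ * m χ : ℕ)) : ℂ)
        = (p : ℂ) * ((t * q : ℕ) : ℂ) := by
      push_cast
      push_cast at hII
      linear_combination hII
    have h6 := mul_left_cancel₀ hpC h4
    exact_mod_cast h6.symm
  exact Helper19.br_num_alpha p q t a _ _ _ _ ht ha hqa hpeq h1 h2

end Cfsg.Agent.Helper65
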