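import Mathlib
import Cfsg.Prelude.Def_CaseTheorems
import Cfsg.Prelude.Def_OddOrderLocal
import Cfsg.Agent.Helper64.MetaCyc
import Cfsg.Agent.Helper64.MaxClass
import Cfsg.Agent.Helper64.SmallRank
import Cfsg.Agent.Helper21.PRank
import Cfsg.Agent.S3771
import Cfsg.Agent.Helper65.BkLift
import Cfsg.Agent.Helper65.BkH
import Cfsg.Agent.Helper58.BkA
import Cfsg.Agent.Helper58.BkB
import Cfsg.Agent.Helper61.BkC
import Cfsg.Agent.Helper61.BkJ3e
import Cfsg.Agent.Helper47.BkJ1
import Cfsg.Agent.Helper47.BkJ3d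
import Cfsg.Agent.Helper41.BkJ3a
import Cfsg.Agent.Helper41.BkJ3b
import Cfsg.Agent.Helper41.BkJ3c
import Cfsg.Agent.Helper55.BkJ2
import Cfsg.Agent.Helper80.BkJ3f
import Cfsg.Agent.Helper55.BkI

set_option autoImplicit false

namespace Cfsg.Agent.Helper65

open Cfsg.Agent.Helper64

/-- (T3) A `3`-group all of whose subgroups of exponent `3` have order at most `9` is metacyclic
or of maximal class. -/
theorem bk_three_main.{u} : ∀ (n : ℕ) (R : Type u) [Group R] [Finite R], Nat.card R = 3 ^ n →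
    (∀ S : Subgroup R, (∀ s ∈ S, s ^ 3 = 1) → Nat.card S ≤ 3 ^ 2) →
    Cfsg.IsMetacyclic R ∨ Group.nilpotencyClass R = n - 1 := by
  intro n
  induction n using Nat.strong_induction_on with
  | _ n ih =>
    intro R _ _ hn hS
    haveI : Fact (Nat.Prime 3) := ⟨Nat.prime_three⟩
    have hR : IsPGroup 3 R := IsPGroup.of_card hn
    have hp2 : (3 : ℕ) ≠ 2 := by norm_num
    obtain ⟨E, hEn, hE, hEcard⟩ := Cfsg.Agent.Helper58.bk_omega_sub hp2 hR hS
    by_cases hcomm : commutator R = ⊥
    · left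
      by_cases htriv : (⊤ : Subgroup R) = ⊥
      · haveI : Subsingleton R := by
          constructor
          intro x y
          have hx : x ∈ (⊥ : Subgroup R) := htriv ▸ Subgroup.mem_top x
          have hy : y ∈ (⊥ : Subgroup R) := htriv ▸ Subgroup.mem_top y
          rw [Subgroup.mem_bot] at hx hy
          rw [hx, hy]
        exact ⟨⊥, inferInstance, inferInstance, inferInstance⟩
      · obtain ⟨z, _, hzc, hzp, hz1⟩ := omegaquot_exists_central hR (⊤ : Subgroup R) htriv
        exact metacyc_of_comm_le hp2 hR E hE hEcard z hzc hzp hz1 (by rw [hcomm]; exact bot_le)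
    · haveI hnil : Group.IsNilpotent R := hR.isNilpotent
      -- the last nontrivial term of the lower central series
      have hL1 : (⊤ : Subgroup R).lowerCentralSeries 1 ≠ ⊥ := hcomm
      have hk2 : 2 ≤ Group.nilpotencyClass R := by
        by_contra hlt
        exact hL1 (Subgroup.lowerCentralSeries_eq_bot_iff_nilpotencyClass_le.mpr (by omega))
      obtain ⟨c, hck⟩ : ∃ c, Group.nilpotencyClass R = c + 1 := ⟨Group.nilpotencyClass R - 1, by omega⟩
      have hc1 : 1 ≤ c := by omega
      have hc : (⊤ : Subgroup R).lowerCentralSeries c ≠ ⊥ := by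
        intro h
        have := Subgroup.lowerCentralSeries_eq_bot_iff_nilpotencyClass_le.mp h
        omega
      have hc' : (⊤ : Subgroup R).lowerCentralSeries (c + 1) = ⊥ :=
        Subgroup.lowerCentralSeries_eq_bot_iff_nilpotencyClass_le.mpr hck.le
      haveI : ((⊤ : Subgroup R).lowerCentralSeries c).Normal := inferInstance
      obtain ⟨z, hzL, hzc, hzp, hz1⟩ :=
        omegaquot_exists_central hR ((⊤ : Subgroup R).lowerCentralSeries c) hc
      haveI hZn : (Subgroup.zpowers z).Normal := omegaquot_zpowers_normal hzc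
      have hzcomm : z ∈ commutator R :=
        (⊤ : Subgroup R).lowerCentralSeries_antitone hc1 hzL
      by_cases hB : ∀ B : Subgroup R, Nat.card B = 3 ^ 3 → ∀ a ∈ B, ∀ b ∈ B, a * b = b * a
      · have hS' := Cfsg.Agent.Helper58.bk_quot_hyp hp2 hR hS hB z hzc hzp hz1
        have hZcard : Nat.card (Subgroup.zpowers z) = 3 := by
          rw [Nat.card_zpowers]; exact orderOf_eq_prime hzp hz1
        have hn1 : 1 ≤ n := by
          rcases Nat.eq_zero_or_pos n with h0 | h0
          · subst h0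
            have h1 : Nat.card (Subgroup.zpowers z) ∣ Nat.card R := Subgroup.card_subgroup_dvd_card _
            rw [hZcard, hn] at h1
            norm_num at h1
          · exact h0
        have hcardQ : Nat.card (R ⧸ Subgroup.zpowers z) = 3 ^ (n - 1) := by
          have h1 := (Subgroup.zpowers z).card_mul_index
          rw [hZcard, hn] at h1
          have h2 : Nat.card (R ⧸ Subgroup.zpowers z) = (Subgroup.zpowers z).index := rfl
          rw [h2]
          have h3 : (3 : ℕ) ^ n = 3 * 3 ^ (n - 1) := by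
            rw [← pow_succ']; congr 1; omega
          rw [h3] at h1
          exact Nat.eq_of_mul_eq_mul_left (by norm_num) h1
        rcases ih (n - 1) (by omega) (R ⧸ Subgroup.zpowers z) hcardQ hS' with hM | hC
        · left
          exact bk_lift_metacyclic hp2 hR E hE hEcard z hzcomm hzc hzp hz1 hM
        · right
          exact Cfsg.Agent.Helper65.bk65_lift_maxclass n hn hS c hc1 hc hc' z hzL hzp hz1 (by rw [hC]; omega)
      · right
        push Not at hB
        obtain ⟨B, hBcard, hBna⟩ := hB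
        exact Cfsg.Agent.Helper61.bk_maxclass_of_nonab hp2 n hn hS B hBcard (by
          intro h
          obtain ⟨a, ha, b, hb, hab⟩ := hBna
          exact hab (h a ha b hb))

/-- (Fall 2) A `p`-group of rank at most `2` (`p` odd) with a normal subgroup of order `p ^ 3` and
exponent `p` belongs to one of the two three-generator families. -/
theorem bk_fall2 {G : Type*} [Group G] [Finite G] {p : ℕ} [Fact p.Prime] (hp : p ≠ 2) (n : ℕ)
    (hG : Nat.card G = p ^ n) (hrk : Cfsg.PRankLE p 2 G)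
    (E : Subgroup G) [E.Normal] (hE : Nat.card E = p ^ 3) (hexp : ∀ e ∈ E, e ^ p = 1) :
    (3 ≤ n ∧ ∃ x y z : G, Subgroup.closure ({x, y, z} : Set G) = ⊤ ∧ x ^ p = 1 ∧ y ^ p = 1 ∧
        z ^ p ^ (n - 2) = 1 ∧ x * z = z * x ∧ y * z = z * y ∧
        x⁻¹ * y * x = y * z ^ p ^ (n - 3)) ∨
    (4 ≤ n ∧ ∃ (s : ℕ) (x y z : G), (s = 1 ∨ ¬ IsSquare (s : ZMod p)) ∧
        Subgroup.closure ({x, y, z} : Set G) = ⊤ ∧ x ^ p = 1 ∧ y ^ p = 1 ∧ z ^ p ^ (n - 2) = 1 ∧
        y * z = z * y ∧ x⁻¹ * y * x = y * z ^ (s * p ^ (n - 3)) ∧ x⁻¹ * z * x = y * z) := by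
  obtain ⟨x, y, w, hx, hy, hw, hw1, hwc, hxy, hY, hX⟩ := Cfsg.Agent.Helper47.bk_f2_data hp n hG hrk E hE hexp
  obtain ⟨hcyc, hΩ⟩ := Cfsg.Agent.Helper47.bk_f2_cyc hp n hG hrk E hE hexp x y w hx hy hw hw1 hwc hxy
  by_cases hK : ∀ g : G, ∃ e ∈ E, ∃ c ∈ Subgroup.centralizer (E : Set G), g = e * c
  · left
    exact Cfsg.Agent.Helper55.bk_f2_split hp n hG hrk E hE hexp x y w hx hy hw hw1 hwc hxy hcyc hΩ hK
  · right
    have hK' : ∃ g : G, ¬ ∃ e ∈ E, ∃ c ∈ Subgroup.centralizer (E : Set G), g = e * c := by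
      by_contra h
      apply hK
      intro g
      by_contra hg
      exact h ⟨g, hg⟩
    have hker := Cfsg.Agent.Helper41.bk_f2_kernel hp n hG E hE hexp x y w hx hy hw hw1 hwc hxy hY
    have hpow := Cfsg.Agent.Helper41.bk_f2_pow hp n hG E hE hexp x y w hx hy hw hw1 hwc hxy hY hX
    obtain ⟨z, hzy, hzK, hzgen⟩ :=
      Cfsg.Agent.Helper61.bk_f2_z hp n hG hrk E hE hexp x y w hx hy hw hw1 hwc hxy hY hcyc hΩ hpow hK'
    have hidx := fun h : G =>
      Cfsg.Agent.Helper41.bk_f2_index hp n hG E hE hexp x y w hx hy hw hw1 hwc hxy hY hX hker z h hzK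
    exact Cfsg.Agent.Helper80.bk_f2_final hp n hG E hE hexp x y w hx hy hw hw1 hwc hxy hY hX hΩ hker z hzy hzK
      (hpow z) hzgen hidx

/-- Blackburn's classification of the `p`-groups of rank at most two, `p` odd. -/
theorem bk_result {G : Type*} [Group G] [Finite G] {p : ℕ} [Fact p.Prime] (hp : p ≠ 2) (n : ℕ)
    (hG : Nat.card G = p ^ n) (hrk : Cfsg.PRankLE p 2 G) :
    Cfsg.IsMetacyclic G ∨
    (3 ≤ n ∧ ∃ x y z : G, Subgroup.closure ({x, y, z} : Set G) = ⊤ ∧ x ^ p = 1 ∧ y ^ p = 1 ∧ z ^ p ^ (n - 2) = 1 ∧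
        x * z = z * x ∧ y * z = z * y ∧ x⁻¹ * y * x = y * z ^ p ^ (n - 3)) ∨
    (4 ≤ n ∧ ∃ (s : ℕ) (x y z : G), (s = 1 ∨ ¬ IsSquare (s : ZMod p)) ∧ Subgroup.closure ({x, y, z} : Set G) = ⊤ ∧
        x ^ p = 1 ∧ y ^ p = 1 ∧ z ^ p ^ (n - 2) = 1 ∧ y * z = z * y ∧ x⁻¹ * y * x = y * z ^ (s * p ^ (n - 3)) ∧
        x⁻¹ * z * x = y * z) ∨
    (p = 3 ∧ 2 ≤ n ∧ (⊤ : Subgroup G).lowerCentralSeries (n - 2) ≠ ⊥) := by
  have hpp := (Fact.out : p.Prime)
  have hPG : IsPGroup p G := IsPGroup.of_card hG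
  haveI hnil : Group.IsNilpotent G := hPG.isNilpotent
  have hbig : p ≠ 3 → 3 < p := by
    intro h3
    have h2 := hpp.two_le
    rcases Nat.lt_or_ge 3 p with h | h
    · exact h
    · exfalso
      have : p = 2 ∨ p = 3 := by omega
      rcases this with h | h
      · exact hp h
      · exact h3 h
  have hcls : 2 ≤ n → Group.nilpotencyClass G = n - 1 →
      (⊤ : Subgroup G).lowerCentralSeries (n - 2) ≠ ⊥ := by
    intro hn2 hC h
    have := Subgroup.lowerCentralSeries_eq_bot_iff_nilpotencyClass_le.mp h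
    omega
  by_cases hH : ∀ S : Subgroup G, (∀ s ∈ S, s ^ p = 1) → Nat.card S ≤ p ^ 2
  · by_cases hp3 : p = 3
    · subst hp3
      rcases bk_three_main n G hG hH with hM | hC
      · exact Or.inl hM
      · by_cases hn2 : 2 ≤ n
        · exact Or.inr (Or.inr (Or.inr ⟨rfl, hn2, hcls hn2 hC⟩))
        · left
          have hcardle : Nat.card G ≤ 3 := by
            rw [hG]
            have : n ≤ 1 := by omega
            calc 3 ^ n ≤ 3 ^ 1 := Nat.pow_le_pow_right (by norm_num) this
              _ = 3 := by norm_num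
          haveI : IsCyclic G := by
            have hn01 : n = 0 ∨ n = 1 := by omega
            rcases hn01 with h0 | h1
            · subst h0
              rw [pow_zero] at hG
              haveI : Subsingleton G := (Nat.card_eq_one_iff_unique.mp hG).1
              infer_instance
            · subst h1
              rw [pow_one] at hG
              exact isCyclic_of_prime_card hG
          exact ⟨⊤, inferInstance, inferInstance, inferInstance⟩
    · exact Or.inl (metacyc_main (hbig hp3) (Nat.card G) G rfl hPG hH)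
  · push Not at hH
    obtain ⟨S₀, hS₀, hcard⟩ := hH
    have key : ∀ E : Subgroup G, E.Normal → Nat.card E = p ^ 3 → (∀ e ∈ E, e ^ p = 1) →
        Cfsg.IsMetacyclic G ∨
        (3 ≤ n ∧ ∃ x y z : G, Subgroup.closure ({x, y, z} : Set G) = ⊤ ∧ x ^ p = 1 ∧ y ^ p = 1 ∧ z ^ p ^ (n - 2) = 1 ∧
            x * z = z * x ∧ y * z = z * y ∧ x⁻¹ * y * x = y * z ^ p ^ (n - 3)) ∨
        (4 ≤ n ∧ ∃ (s : ℕ) (x y z : G), (s = 1 ∨ ¬ IsSquare (s : ZMod p)) ∧ Subgroup.closure ({x, y, z} : Set G) = ⊤ ∧
            x ^ p = 1 ∧ y ^ p = 1 ∧ z ^ p ^ (n - 2) = 1 ∧ y * z = z * y ∧ x⁻¹ * y * x = y * z ^ (s * p ^ (n - 3)) ∧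
            x⁻¹ * z * x = y * z) ∨
        (p = 3 ∧ 2 ≤ n ∧ (⊤ : Subgroup G).lowerCentralSeries (n - 2) ≠ ⊥) := by
      intro E hEn hE hexp
      haveI := hEn
      rcases bk_fall2 hp n hG hrk E hE hexp with h | h
      · exact Or.inr (Or.inl h)
      · exact Or.inr (Or.inr (Or.inl h))
    by_cases hp3 : p = 3
    · rcases Cfsg.Agent.Helper55.bk_normal_E hp n hG hrk S₀ hS₀ hcard with hC | ⟨E, hEn, hE, hexp⟩
      · have hn2 : 2 ≤ n := by
          by_contra hlt
          have h1 : Nat.card S₀ ≤ Nat.card G := Nat.card_le_card_of_injective _ S₀.subtype_injective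
          have h2 : p ^ n ≤ p ^ 1 := Nat.pow_le_pow_right hpp.pos (by omega)
          have h3 : p ^ 1 ≤ p ^ 2 := Nat.pow_le_pow_right hpp.pos (by norm_num)
          rw [hG] at h1
          omega
        exact Or.inr (Or.inr (Or.inr ⟨hp3, hn2, hcls hn2 hC⟩))
      · exact key E hEn hE hexp
    · have hp3' := hbig hp3
      have hmul := smallrank_mul_pow_eq_one hp3' (Nat.card G) G rfl hPG
        (fun E hE => hrk E hE.1 hE.2)
      let E : Subgroup G :=
        { carrier := {g | g ^ p = 1}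
          mul_mem' := fun {a b} ha hb => hmul a b ha hb
          one_mem' := one_pow p
          inv_mem' := fun {a} ha => by
            show a⁻¹ ^ p = 1
            rw [inv_pow, show a ^ p = 1 from ha, inv_one] }
      have hEmem : ∀ g : G, g ∈ E ↔ g ^ p = 1 := fun g => Iff.rfl
      have hEn : E.Normal := by
        constructor
        intro e he g
        rw [hEmem] at he ⊢
        rw [conj_pow, he, mul_one, mul_inv_cancel]
      have hexp : ∀ e ∈ E, e ^ p = 1 := fun e he => (hEmem e).mp he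
      have hle : Nat.card E ≤ p ^ 3 := by
        refine Cfsg.Agent.S3771.result (hPG.to_subgroup E)
          (Cfsg.Agent.Helper21.pRankLE_of_injective E.subtype E.subtype_injective hrk) ?_
        intro x
        have := hexp x.1 x.2
        exact Subtype.ext (by simpa using this)
      have hge : p ^ 2 < Nat.card E :=
        lt_of_lt_of_le hcard (Subgroup.card_le_of_le (fun s hs => (hEmem s).mpr (hS₀ s hs)))
      obtain ⟨k, hk⟩ := IsPGroup.iff_card.mp (hPG.to_subgroup E)
      have hk3 : k = 3 := by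
        rw [hk] at hle hge
        have h1 : k ≤ 3 := (Nat.pow_le_pow_iff_right hpp.one_lt).mp hle
        have h2 : 2 < k := (Nat.pow_lt_pow_iff_right hpp.one_lt).mp hge
        omega
      rw [hk3] at hk
      exact key E hEn hk hexp

end Cfsg.Agent.Helper65
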