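import Mathlib
import Cfsg.Prelude.Def_Characters
import Cfsg.Prelude.Def_Blocks
import Cfsg.Agent.Helper77.D1Defs2
import Cfsg.Agent.Helper79.S4441Setup
import Cfsg.Agent.Helper79.Quotient
import Cfsg.Agent.Helper75.LatGroup

/-!
# CALL S4442B, piece SA (core lemmas): from a Sylow subgroup of order `p` to the `D1` data

`P` a Sylow `p`-subgroup of order `p`, `x` a generator, `K` the `p'`-complement of `⟨x⟩` in
`C = C_G(P)`.  A character `θ` of `C` with `P` in its kernel restricts irreducibly to `K`,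
its induced central character is `omTheta` of the restriction, and the indices of `C` in the
stabilizer of `θ` and in `N_G(P)` are the cardinalities of `stabUnits` and `normUnits`.
-/

universe u

set_option autoImplicit false

open Cfsg Cfsg.Agent.Helper77
open scoped ComplexConjugate

namespace Cfsg.Agent.Helper65

/-- Counting cosets through a function that separates them. -/
theorem d1sa_relIndex_eq_card {G U : Type*} [Group G] (H L : Subgroup G) (S : Set U)
    (ν : L → U) (h1 : ∀ n, ν n ∈ S) (h2 : ∀ u ∈ S, ∃ n : L, ν n = u)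
    (h3 : ∀ n m : L, ν n = ν m ↔ ((n : G)⁻¹ * (m : G)) ∈ H) : Nat.card S = H.relIndex L := by
  unfold Subgroup.relIndex Subgroup.index
  symm
  apply Nat.card_congr
  refine Equiv.ofBijective
    (Quotient.lift (fun n : L => (⟨ν n, h1 n⟩ : S)) ?_) ⟨?_, ?_⟩
  · intro a b hab
    have hab' : a⁻¹ * b ∈ H.subgroupOf L := QuotientGroup.leftRel_apply.mp hab
    apply Subtype.ext
    exact (h3 a b).mpr (by simpa [Subgroup.mem_subgroupOf] using hab')
  · intro a b
    induction a using Quotient.inductionOn with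
    | _ a =>
      induction b using Quotient.inductionOn with
      | _ b =>
        intro hab
        apply Quotient.sound
        apply QuotientGroup.leftRel_apply.mpr
        have h4 : ν a = ν b := congrArg Subtype.val hab
        have h5 := (h3 a b).mp h4
        simpa [Subgroup.mem_subgroupOf] using h5
  · rintro ⟨u, hu⟩
    obtain ⟨n, hn⟩ := h2 u hu
    exact ⟨Quotient.mk _ n, Subtype.ext hn⟩

section Decomp

variable {G : Type u} [Group G] [Finite G] {p : ℕ} [Fact p.Prime]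

/-- Uniqueness of the decomposition `x ^ i * k`, `i < p`, `k ∈ K` (`K` a `p'`-group). -/
theorem d1sa_decomp_unique {x : G} (hx : orderOf x = p) (K : Subgroup G)
    (hK : ¬ p ∣ Nat.card K) {i j : ℕ} (hi : i < p) (hj : j < p) {k k' : G} (hk : k ∈ K)
    (hk' : k' ∈ K) (h : x ^ i * k = x ^ j * k') : i = j ∧ k = k' := by
  have hp : p.Prime := Fact.out
  have hy : (x ^ j)⁻¹ * x ^ i = k' * k⁻¹ := by
    have h1 : x ^ i = x ^ j * k' * k⁻¹ := by rw [← h]; group
    rw [h1]; group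
  have hyK : (x ^ j)⁻¹ * x ^ i ∈ K := by rw [hy]; exact K.mul_mem hk' (K.inv_mem hk)
  have hyz : (x ^ j)⁻¹ * x ^ i ∈ Subgroup.zpowers x :=
    (Subgroup.zpowers x).mul_mem ((Subgroup.zpowers x).inv_mem (Subgroup.npow_mem_zpowers x j))
      (Subgroup.npow_mem_zpowers x i)
  have hy1 : (x ^ j)⁻¹ * x ^ i = 1 := by
    have h1 : orderOf ((x ^ j)⁻¹ * x ^ i) ∣ Nat.card K := Subgroup.orderOf_dvd_natCard K hyK
    have h2 : orderOf ((x ^ j)⁻¹ * x ^ i) ∣ p := by
      have := Subgroup.orderOf_dvd_natCard _ hyz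
      rwa [Nat.card_zpowers, hx] at this
    rcases (Nat.dvd_prime hp).mp h2 with h3 | h3
    · exact orderOf_eq_one_iff.mp h3
    · exact absurd (h3 ▸ h1) hK
  have hij : x ^ i = x ^ j := by
    have := inv_mul_eq_one.mp hy1
    exact this.symm
  refine ⟨?_, ?_⟩
  · apply pow_injOn_Iio_orderOf (x := x)
    · rw [hx]; exact hi
    · rw [hx]; exact hj
    · exact hij
  · rw [hij] at h
    exact mul_left_cancel h

/-- The exponent of a conjugate of `x` inside `⟨x⟩` as a unit of `ZMod p`. -/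
theorem d1sa_exists_unit {x : G} (hx : orderOf x = p) (hx1 : x ≠ 1) (n : G) (j : ℕ)
    (hn : n * x * n⁻¹ = x ^ j) :
    ∃ u : (ZMod p)ˣ, n * x * n⁻¹ = x ^ (u : ZMod p).val := by
  have hp : p.Prime := Fact.out
  have hcop : Nat.Coprime j p := by
    rw [Nat.coprime_comm, Nat.Prime.coprime_iff_not_dvd hp]
    intro hdvd
    have h1 : x ^ j = 1 := by
      obtain ⟨t, rfl⟩ := hdvd
      rw [pow_mul, ← hx, pow_orderOf_eq_one, one_pow]
    rw [h1] at hn
    apply hx1
    have h2 : x = n⁻¹ * (n * x * n⁻¹) * n := by group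
    rw [h2, hn]; group
  refine ⟨ZMod.unitOfCoprime j hcop, ?_⟩
  rw [ZMod.coe_unitOfCoprime, ZMod.val_natCast, hn]
  conv_lhs => rw [← pow_mod_orderOf, hx]

/-- The unit is determined by the power of `x`. -/
theorem d1sa_unit_unique {x : G} (hx : orderOf x = p) {u u' : (ZMod p)ˣ}
    (h : x ^ (u : ZMod p).val = x ^ (u' : ZMod p).val) : u = u' := by
  have hp : p.Prime := Fact.out
  haveI : NeZero p := ⟨hp.ne_zero⟩
  have h1 : (u : ZMod p).val = (u' : ZMod p).val := by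
    apply pow_injOn_Iio_orderOf (x := x)
    · rw [hx]; exact ZMod.val_lt _
    · rw [hx]; exact ZMod.val_lt _
    · exact h
  exact Units.ext (ZMod.val_injective p h1)

end Decomp

section Setup

variable {G : Type u} [Group G] [Finite G] {p : ℕ} [Fact p.Prime]

/-- Membership in the centralizer of a cyclic subgroup `P = ⟨x⟩`. -/
theorem d1sa_mem_C (P : Subgroup G) {x : G} (hxP : x ∈ P) (hgen : ∀ q ∈ P, ∃ i : ℕ, q = x ^ i)
    (g : G) : g ∈ Subgroup.centralizer (P : Set G) ↔ g * x = x * g := by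
  rw [Subgroup.mem_centralizer_iff]
  constructor
  · intro h
    exact (h x hxP).symm
  · intro h q hq
    obtain ⟨i, rfl⟩ := hgen q hq
    exact ((Commute.pow_right (show Commute g x from h) i)).eq.symm

/-- A character of `C = ⟨x⟩ K` with `x` in its kernel restricts irreducibly to `K`, and its
values only depend on the `K`-component. -/
theorem d1sa_res_irr {C K : Subgroup G} (hKC : K ≤ C) {x : G} (hxC : x ∈ C)
    (hdec : ∀ c : C, ∃ i : ℕ, ∃ k : K, (c : G) = x ^ i * (k : G))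
    (θ : Cfsg.IrrCharacter C) (hθx : (θ : C → ℂ) ⟨x, hxC⟩ = (θ : C → ℂ) 1) :
    Cfsg.IsIrrCharacter K (fun k : K => (θ : C → ℂ) (Subgroup.inclusion hKC k)) ∧
      ∀ (i : ℕ) (k : K) (c : C), (c : G) = x ^ i * (k : G) →
        (θ : C → ℂ) c = (θ : C → ℂ) (Subgroup.inclusion hKC k) := by
  obtain ⟨n, ρ, hirr, hρ⟩ := θ.2
  have hρx : ρ ⟨x, hxC⟩ = 1 :=
    Cfsg.Agent.Helper79.rep_eq_one_of_char_eq ρ ⟨x, hxC⟩ (by rw [hρ]; exact hθx)
  have hρc : ∀ (i : ℕ) (k : K) (c : C), (c : G) = x ^ i * (k : G) →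
      ρ c = ρ (Subgroup.inclusion hKC k) := by
    intro i k c hc
    have hc' : c = (⟨x, hxC⟩ : C) ^ i * Subgroup.inclusion hKC k := by
      apply Subtype.ext
      rw [hc]
      simp
    rw [hc', map_mul, map_pow, hρx, one_pow, one_mul]
  refine ⟨⟨n, MonoidHom.comp ρ (Subgroup.inclusion hKC), ?_, ?_⟩, ?_⟩
  · -- irreducibility
    haveI : IsSimpleOrder (Subrepresentation ρ) := hirr
    refine { exists_pair_ne := ⟨⊥, ⊤, ?_⟩, eq_bot_or_eq_top := ?_ }
    · intro h
      have h2 : (⊥ : Submodule ℂ (Fin n → ℂ)) = ⊤ := congrArg Subrepresentation.toSubmodule h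
      have h3 : (⊥ : Subrepresentation ρ) = ⊤ := Subrepresentation.toSubmodule_injective h2
      exact bot_ne_top h3
    · intro W
      have hW : ∀ (c : C) ⦃v : Fin n → ℂ⦄, v ∈ W.toSubmodule → ρ c v ∈ W.toSubmodule := by
        intro c v hv
        obtain ⟨i, k, hc⟩ := hdec c
        rw [hρc i k c hc]
        exact W.apply_mem_toSubmodule k hv
      rcases eq_bot_or_eq_top (⟨W.toSubmodule, hW⟩ : Subrepresentation ρ) with h | h
      · left
        have h2 : W.toSubmodule = (⊥ : Submodule ℂ (Fin n → ℂ)) :=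
          congrArg Subrepresentation.toSubmodule h
        exact Subrepresentation.toSubmodule_injective h2
      · right
        have h2 : W.toSubmodule = (⊤ : Submodule ℂ (Fin n → ℂ)) :=
          congrArg Subrepresentation.toSubmodule h
        exact Subrepresentation.toSubmodule_injective h2
  · funext k
    rw [← hρ]
    rfl
  · intro i k c hc
    rw [← hρ]
    show LinearMap.trace ℂ _ (ρ c) = LinearMap.trace ℂ _ (ρ (Subgroup.inclusion hKC k))
    rw [hρc i k c hc]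

/-- The induced central character of `θ` is `omTheta` of its restriction to `K`. -/
theorem d1sa_induced_eq {C K : Subgroup G} (hKC : K ≤ C) {x : G} (hx : orderOf x = p)
    (hK : ¬ p ∣ Nat.card K) (hxC : x ∈ C)
    (hdec : ∀ c : C, ∃ i : ℕ, ∃ k : K, (c : G) = x ^ i * (k : G)) (θ : C → ℂ)
    (hθ : ∀ (i : ℕ) (k : K) (c : C), (c : G) = x ^ i * (k : G) →
      θ c = θ (Subgroup.inclusion hKC k)) (g : G) :
    Cfsg.inducedCentralChar C θ g
      = omTheta p x K (fun k : K => θ (Subgroup.inclusion hKC k)) g := by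
  have hp : p.Prime := Fact.out
  unfold Cfsg.inducedCentralChar omTheta
  symm
  have hmemC : ∀ c : Fin p × K, x ^ (c.1 : ℕ) * (c.2 : G) ∈ C :=
    fun c => C.mul_mem (C.pow_mem hxC _) (hKC c.2.2)
  apply finsum_mem_eq_of_bijOn
    (fun c : Fin p × K => (⟨x ^ (c.1 : ℕ) * (c.2 : G), hmemC c⟩ : C))
  · refine ⟨?_, ?_, ?_⟩
    · intro c hc
      exact hc
    · intro c _ c' _ hcc'
      have h1 : x ^ (c.1 : ℕ) * (c.2 : G) = x ^ (c'.1 : ℕ) * (c'.2 : G) :=
        congrArg Subtype.val hcc'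
      obtain ⟨h2, h3⟩ := d1sa_decomp_unique hx K hK c.1.2 c'.1.2 c.2.2 c'.2.2 h1
      exact Prod.ext (Fin.ext h2) (Subtype.ext h3)
    · intro h hh
      obtain ⟨i, k, hik⟩ := hdec h
      have hpow : x ^ (i % p) = x ^ i := by rw [← hx]; exact pow_mod_orderOf x i
      refine ⟨(⟨i % p, Nat.mod_lt _ hp.pos⟩, k), ?_, ?_⟩
      · show IsConj g (x ^ (i % p) * (k : G))
        rw [hpow, ← hik]
        exact hh
      · apply Subtype.ext
        show x ^ (i % p) * (k : G) = (h : G)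
        rw [hik, hpow]
  · intro c _
    show θ (Subgroup.inclusion hKC c.2) / θ (Subgroup.inclusion hKC 1)
      = θ ⟨x ^ (c.1 : ℕ) * (c.2 : G), hmemC c⟩ / θ 1
    rw [hθ (c.1 : ℕ) c.2 ⟨_, hmemC c⟩ rfl, map_one]

/-- The indices of `C = C_G(P)` in `N_G(P)` and in the stabilizer `T` of `θ` are the
cardinalities of `normUnits` and `stabUnits`. -/
theorem d1sa_cards (P : Subgroup G) {x : G} (hxP : x ∈ P) (hx1 : x ≠ 1)
    (hx : orderOf x = p) (hgen : ∀ q ∈ P, ∃ i : ℕ, q = x ^ i)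
    (K : Subgroup G) (hK : ¬ p ∣ Nat.card K) (hKC : K ≤ Subgroup.centralizer (P : Set G))
    (hC : ∀ g : G, g * x = x * g ↔ ∃ i : ℕ, ∃ k ∈ K, g = x ^ i * k)
    (θ : Subgroup.centralizer (P : Set G) → ℂ)
    (hθ : ∀ (i : ℕ) (k : K) (c : Subgroup.centralizer (P : Set G)),
      (c : G) = x ^ i * (k : G) → θ c = θ (Subgroup.inclusion hKC k))
    (T : Subgroup G)
    (hT : ∀ g : G, g ∈ T ↔ (g ∈ Subgroup.normalizer (P : Set G) ∧
      ∀ c c' : Subgroup.centralizer (P : Set G), (c' : G) = g * c * g⁻¹ → θ c' = θ c)) :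
    Nat.card (normUnits p x)
        = (Subgroup.centralizer (P : Set G)).relIndex (Subgroup.normalizer (P : Set G)) ∧
      Nat.card (stabUnits p x K (fun k : K => θ (Subgroup.inclusion hKC k)))
        = (Subgroup.centralizer (P : Set G)).relIndex T := by
  have hp : p.Prime := Fact.out
  have hPz : P = Subgroup.zpowers x := by
    apply le_antisymm
    · intro q hq
      obtain ⟨i, rfl⟩ := hgen q hq
      exact Subgroup.npow_mem_zpowers x i
    · exact (Subgroup.zpowers_le).mpr hxP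
  have hdec : ∀ c : Subgroup.centralizer (P : Set G), ∃ i : ℕ, ∃ k : K,
      (c : G) = x ^ i * (k : G) := by
    intro c
    obtain ⟨i, k, hk, h⟩ := (hC c).mp ((d1sa_mem_C P hxP hgen c).mp c.2)
    exact ⟨i, ⟨k, hk⟩, h⟩
  -- conjugates of `x` by normalizer elements
  have hNx : ∀ n ∈ Subgroup.normalizer (P : Set G),
      ∃ u : (ZMod p)ˣ, n * x * n⁻¹ = x ^ (u : ZMod p).val := by
    intro n hn
    have h1 : n * x * n⁻¹ ∈ P := (Subgroup.mem_normalizer_iff.mp hn x).mp hxP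
    obtain ⟨j, hj⟩ := hgen _ h1
    exact d1sa_exists_unit hx hx1 n j hj
  have hxN : ∀ (n : G) (u : (ZMod p)ˣ), n * x * n⁻¹ = x ^ (u : ZMod p).val →
      n ∈ Subgroup.normalizer (P : Set G) := by
    intro n u hn
    apply Subgroup.mem_normalizer_fintype
    intro q hq
    obtain ⟨i, rfl⟩ := hgen q hq
    have h1 : n * x ^ i * n⁻¹ = (n * x * n⁻¹) ^ i := (conj_pow).symm
    rw [h1, hn]
    exact P.pow_mem (P.pow_mem hxP _) _
  choose ν hν using fun n : Subgroup.normalizer (P : Set G) => hNx n n.2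
  -- the fibre criterion
  have hfib : ∀ n m : Subgroup.normalizer (P : Set G),
      ν n = ν m ↔ ((n : G)⁻¹ * (m : G)) ∈ Subgroup.centralizer (P : Set G) := by
    intro n m
    rw [d1sa_mem_C P hxP hgen]
    constructor
    · intro h
      have h1 : (n : G) * x * (n : G)⁻¹ = (m : G) * x * (m : G)⁻¹ := by
        rw [hν n, hν m, h]
      have h2 : (n : G)⁻¹ * (m : G) * x = (n : G)⁻¹ * ((m : G) * x * (m : G)⁻¹) * (m : G) := by
        group
      rw [h2, ← h1]
      group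
    · intro h
      apply d1sa_unit_unique hx
      rw [← hν n, ← hν m]
      have h2 : (m : G) * x * (m : G)⁻¹
          = (n : G) * ((n : G)⁻¹ * (m : G) * x) * ((m : G)⁻¹ * (n : G)) * (n : G)⁻¹ := by
        group
      rw [h2, h]
      group
  have hPfin : Finite (P : Set G) := inferInstanceAs (Finite P)
  refine ⟨?_, ?_⟩
  · refine d1sa_relIndex_eq_card _ _ (normUnits p x) ν ?_ ?_ hfib
    · intro n
      exact ⟨(n : G), hν n⟩
    · rintro u ⟨n, hn⟩
      refine ⟨⟨n, hxN n u hn⟩, ?_⟩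
      apply d1sa_unit_unique hx
      rw [← hν ⟨n, hxN n u hn⟩, hn]
  · have hTN : ∀ t : T, (t : G) ∈ Subgroup.normalizer (P : Set G) :=
      fun t => ((hT t).mp t.2).1
    refine d1sa_relIndex_eq_card _ _
      (stabUnits p x K (fun k : K => θ (Subgroup.inclusion hKC k)))
      (fun t : T => ν ⟨(t : G), hTN t⟩) ?_ ?_ ?_
    · intro t
      refine ⟨(t : G), hν ⟨(t : G), hTN t⟩, ?_⟩
      intro k k' hkk'
      exact ((hT t).mp t.2).2 (Subgroup.inclusion hKC k) (Subgroup.inclusion hKC k') hkk'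
    · rintro u ⟨n, hn, hθn⟩
      have hnN : n ∈ Subgroup.normalizer (P : Set G) := hxN n u hn
      have hnT : n ∈ T := by
        rw [hT]
        refine ⟨hnN, ?_⟩
        intro c c' hcc'
        obtain ⟨i, k, hc⟩ := hdec c
        have hnz : n ∈ Subgroup.normalizer ((Subgroup.zpowers x : Subgroup G) : Set G) := by
          rw [← hPz]; exact hnN
        have hk' : n * (k : G) * n⁻¹ ∈ K :=
          Cfsg.Agent.Helper75.lat_K_normal p x hx K hK hC n hnz (k : G) k.2
        have hc' : (c' : G) = x ^ ((u : ZMod p).val * i) * ((⟨n * (k : G) * n⁻¹, hk'⟩ : K) : G) := by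
          rw [hcc', hc, pow_mul, ← hn, conj_pow]
          group
        rw [hθ _ _ c' hc', hθ i k c hc]
        exact hθn k ⟨n * (k : G) * n⁻¹, hk'⟩ rfl
      refine ⟨⟨n, hnT⟩, ?_⟩
      apply d1sa_unit_unique hx
      rw [← hν ⟨n, hTN ⟨n, hnT⟩⟩, hn]
    · intro t s
      exact hfib ⟨(t : G), hTN t⟩ ⟨(s : G), hTN s⟩

end Setup

section Final

variable {G : Type u} [Group G] [Finite G]

/-- S4442 from the main theorem, with the block identification (piece SF) as a hypothesis. -/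
theorem d1sa_core (p : ℕ) [Fact p.Prime] (hmain : D1MainStmt G p)
    (hSF : ∀ (M : Ideal Cfsg.AlgInt), Cfsg.IsPModular p M → ∀ (x : G) (K : Subgroup G),
      D1Hyp p x K → ∀ (B : Set (Cfsg.IrrCharacter G)), Cfsg.IsPBlock M B →
      ∀ (χ : Cfsg.IrrCharacter G), χ ∈ B → ∀ (θ : Cfsg.IrrCharacter K),
      (∀ g : G, Cfsg.MemLocalIdeal M
        (Cfsg.centralChar (χ : G → ℂ) g - omTheta p x K (θ : K → ℂ) g)) →
      B = blkTheta K x (θ : K → ℂ))
    (M : Ideal Cfsg.AlgInt) (hM : Cfsg.IsPModular p M) (P : Sylow p G) (hP : Nat.card P = p) (B : Set (Cfsg.IrrCharacter G)) (hB : Cfsg.IsPBlock M B) (b : Set (Cfsg.IrrCharacter (Subgroup.centralizer ((P : Subgroup G) : Set G)))) (hind : Cfsg.IsInducedBlock M (Subgroup.centralizer ((P : Subgroup G) : Set G)) b B) (θ : Cfsg.IrrCharacter (Subgroup.centralizer ((P : Subgroup G) : Set G))) (hθ : θ ∈ b) (hθP : ∀ x : Subgroup.centralizer ((P : Subgroup G) : Set G), (x : G) ∈ (P : Subgroup G) → (θ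 : Subgroup.centralizer ((P : Subgroup G) : Set G) → ℂ) x = (θ : Subgroup.centralizer ((P : Subgroup G) : Set G) → ℂ) 1) (T : Subgroup G) (hT : ∀ g : G, g ∈ T ↔ (g ∈ Subgroup.normalizer ((P : Subgroup G) : Set G) ∧ ∀ c c' : Subgroup.centralizer ((P : Subgroup G) : Set G), (c' : G) = g * c * g⁻¹ → (θ : Subgroup.centralizer ((P : Subgroup G) : Set G) → ℂ) c' = (θ : Subgroup.centralizer ((P : Subgroup G) : Set G) → ℂ) c)) (e f : ℕ) (he : (Subgroup.centralizer ((P : Subgroup G) : Set G)).relIndex T = e) (hf : (Subgroup.centralizer ((P : Subgroup G) : Set G)).relIndex (Subgroup.normalizer ((P : Subgroup G) : Set G)) = f) : e ∣ p - 1 ∧ Nat.card B = e + (p - 1) / e ∧ ∃ X Y : Set (Cfsg.IrrCharacter G), B = X ∪ Y ∧ Disjoint X Y ∧ Nat.card X = e ∧ Nat.card Y = (p - 1) / e ∧ (∀ χ ∈ X, (Cfsg.charDegree (χ : G → ℂ) : ℤ) ≡ ((f / e * Cfsg.charDegree (θ : Subgroup.centralizer ((P : Subgroup G) : Set G) → ℂ) : ℕ) : ℤ) [ZMOD p] ∨ (Cfsg.charDegree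 (χ : G → ℂ) : ℤ) ≡ -((f / e * Cfsg.charDegree (θ : Subgroup.centralizer ((P : Subgroup G) : Set G) → ℂ) : ℕ) : ℤ) [ZMOD p]) ∧ (∃ ε : ℤ, (ε = 1 ∨ ε = -1) ∧ ∀ ψ ∈ Y, (Cfsg.charDegree (ψ : G → ℂ) : ℤ) ≡ ε * ((f * Cfsg.charDegree (θ : Subgroup.centralizer ((P : Subgroup G) : Set G) → ℂ) : ℕ) : ℤ) [ZMOD p]) ∧ ∀ ψ ∈ Y, ∀ ψ' ∈ Y, ∀ g : G, ¬ p ∣ orderOf g → (ψ : G → ℂ) g = (ψ' : G → ℂ) g := by
  classical
  letI : Fintype G := Fintype.ofFinite G
  have hp : p.Prime := Fact.out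
  obtain ⟨x, hxP, hx1⟩ := Cfsg.Agent.Helper79.s4441_exists_ne_one P hP
  obtain ⟨hx, hgen⟩ := Cfsg.Agent.Helper79.s4441_gen P hP x hxP hx1
  obtain ⟨K, hKp, hKC, -, hKx⟩ := Cfsg.Agent.Helper79.s4441_K P hP
  obtain ⟨M₀, hM₀, hGM, -, -⟩ := Cfsg.Agent.Helper79.s4441_M0 P hP
  have hC := hKx x hxP hx1
  have hsq : ¬ p ^ 2 ∣ Nat.card G := by
    intro h
    have h1 : p ^ 2 ∣ p * M₀ := h.trans hGM
    rw [pow_two] at h1
    exact hM₀ ((Nat.mul_dvd_mul_iff_left hp.pos).mp h1)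
  have hD : D1Hyp p x K := ⟨hx, hKp, hC, hsq⟩
  have hKC' : K ≤ Subgroup.centralizer ((P : Subgroup G) : Set G) := hKC
  have hxC : x ∈ Subgroup.centralizer ((P : Subgroup G) : Set G) :=
    (d1sa_mem_C (P : Subgroup G) hxP hgen x).mpr rfl
  have hdec : ∀ c : Subgroup.centralizer ((P : Subgroup G) : Set G), ∃ i : ℕ, ∃ k : K,
      (c : G) = x ^ i * (k : G) := by
    intro c
    obtain ⟨i, k, hk, h⟩ := (hC c).mp ((d1sa_mem_C (P : Subgroup G) hxP hgen c).mp c.2)
    exact ⟨i, ⟨k, hk⟩, h⟩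
  have hθx : (θ : Subgroup.centralizer ((P : Subgroup G) : Set G) → ℂ) ⟨x, hxC⟩
      = (θ : Subgroup.centralizer ((P : Subgroup G) : Set G) → ℂ) 1 := hθP ⟨x, hxC⟩ hxP
  obtain ⟨hirr, hθval⟩ := d1sa_res_irr hKC' hxC hdec θ hθx
  obtain ⟨θK, hθK⟩ : ∃ θK : Cfsg.IrrCharacter K, (θK : K → ℂ) = fun k : K =>
      (θ : Subgroup.centralizer ((P : Subgroup G) : Set G) → ℂ) (Subgroup.inclusion hKC' k) :=
    ⟨⟨_, hirr⟩, rfl⟩
  obtain ⟨hcardF, hcardE⟩ := d1sa_cards (P : Subgroup G) hxP hx1 hx hgen K hKp hKC' hC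
    (θ : Subgroup.centralizer ((P : Subgroup G) : Set G) → ℂ) hθval T hT
  rw [← hθK] at hcardE
  have hE : Nat.card (stabUnits p x K (θK : K → ℂ)) = e := hcardE.trans he
  have hF : Nat.card (normUnits p x) = f := hcardF.trans hf
  have hBne : ∃ χ, χ ∈ B := by
    obtain ⟨χ₀, hχ₀⟩ := hB
    refine ⟨χ₀, ?_⟩
    rw [hχ₀]
    intro g
    refine ⟨0, 1, M.zero_mem, ?_, by simp⟩
    exact (Ideal.ne_top_iff_one M).mp hM.2.1.ne_top
  obtain ⟨χ₀, hχ₀⟩ := hBne
  have hBeq : B = blkTheta K x (θK : K → ℂ) := by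
    apply hSF M hM x K hD B hB χ₀ hχ₀ θK
    intro g
    have h1 := hind.2.2 θ hθ χ₀ hχ₀ g
    rw [d1sa_induced_eq hKC' hx hKp hxC hdec
      (θ : Subgroup.centralizer ((P : Subgroup G) : Set G) → ℂ) hθval g, ← hθK] at h1
    obtain ⟨a, b', ha, hb, hab⟩ := h1
    refine ⟨-a, b', M.neg_mem ha, hb, ?_⟩
    push_cast
    rw [neg_div, hab]
    ring
  have hdeg : Cfsg.charDegree (θK : K → ℂ)
      = Cfsg.charDegree (θ : Subgroup.centralizer ((P : Subgroup G) : Set G) → ℂ) := by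
    unfold Cfsg.charDegree
    rw [hθK]
    show ⌊((θ : Subgroup.centralizer ((P : Subgroup G) : Set G) → ℂ)
      (Subgroup.inclusion hKC' 1)).re⌋₊ = _
    rw [map_one]
  obtain ⟨hdiv, X, Y, c, ε, hXY, hdisj, hX, hY, hc, hε, -, -, hreg, hdegX, hdegY⟩ :=
    hmain x K M₀ hD hM₀ hGM θK
  rw [hE] at hdiv hX hY
  rw [hE, hF, hdeg] at hdegX
  rw [hF, hdeg] at hdegY
  refine ⟨hdiv, ?_, X, Y, hBeq.trans hXY, hdisj, hX, hY, ?_, ⟨ε, hε, hdegY⟩, ?_⟩
  · rw [hBeq, hXY, Nat.card_coe_set_eq, Set.ncard_union_eq hdisj (Set.toFinite _) (Set.toFinite _),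
      ← Nat.card_coe_set_eq, ← Nat.card_coe_set_eq, hX, hY]
  · intro χ hχ
    have h1 := hdegX χ hχ
    rcases hc χ hχ with h2 | h2
    · left
      rw [h2, one_mul] at h1
      exact h1
    · right
      rw [h2, neg_one_mul] at h1
      exact h1
  · intro ψ hψ ψ' hψ' g hg
    have h1 := hreg ψ hψ g hg
    have h2 := hreg ψ' hψ' g hg
    have h3 : (ε : ℂ) * (ψ : G → ℂ) g = (ε : ℂ) * (ψ' : G → ℂ) g := by rw [← h1, ← h2]
    have hε0 : (ε : ℂ) ≠ 0 := by
      rcases hε with h | h <;> rw [h] <;> norm_num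
    exact mul_left_cancel₀ hε0 h3

end Final

end Cfsg.Agent.Helper65
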