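import Mathlib
import Cfsg.Agent.Helper77.D1Defs2
import Cfsg.Agent.Helper55.D1MD
import Cfsg.Agent.Helper65.D1SACore
import Cfsg.Agent.Helper75.LatGroup

/-!
# CALL S4442FB, piece FO: orbit-stabilizer for the conjugates of `θ` under `N_G(⟨x⟩)`

The `N_G(⟨x⟩)`-conjugates of `θ ∈ Irr(K)` are in bijection with the cosets of
`E = stabUnits` in `F = normUnits`.
-/

universe u

set_option autoImplicit false

open Cfsg Cfsg.Agent.Helper77
open scoped ComplexConjugate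

namespace Cfsg.Agent.Helper65

variable {G : Type u} [Group G] [Finite G]

omit [Finite G] in
/-- The conjugate of a function on `K` by an element normalizing `K` is unique. -/
theorem d1fo_unique (K : Subgroup G) (n : G) (hnK' : ∀ k ∈ K, n⁻¹ * k * n ∈ K)
    (θ₁ θ₂ θ₂' : K → ℂ) (h : thetaConj K n θ₁ θ₂) (h' : thetaConj K n θ₁ θ₂') : θ₂ = θ₂' := by
  funext k'
  have hk : (k' : G) = n * ((⟨n⁻¹ * k' * n, hnK' k' k'.2⟩ : K) : G) * n⁻¹ := by
    show (k' : G) = n * (n⁻¹ * (k' : G) * n) * n⁻¹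
    group
  rw [h _ k' hk, h' _ k' hk]

/-- FO -/
theorem d1fb_orbit_card (p : ℕ) [Fact p.Prime] (x : G) (K : Subgroup G) (h : D1Hyp p x K)
    (θ : Cfsg.IrrCharacter K) (E F : Subgroup (ZMod p)ˣ)
    (hE : (E : Set (ZMod p)ˣ) = stabUnits p x K (θ : K → ℂ))
    (hF : (F : Set (ZMod p)ˣ) = normUnits p x) (Orb : Finset (Cfsg.IrrCharacter K))
    (hOrb : ∀ θ' : Cfsg.IrrCharacter K, θ' ∈ Orb ↔
      ∃ n : G, n * x * n⁻¹ ∈ Subgroup.zpowers x ∧ thetaConj K n (θ : K → ℂ) (θ' : K → ℂ)) :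
    Orb.card * Nat.card E = Nat.card F := by
  classical
  have hp : p.Prime := Fact.out
  have hx := h.hx
  have hx1 : x ≠ 1 := by
    rintro rfl
    rw [orderOf_one] at hx
    exact hp.one_lt.ne hx
  have hNK : ∀ n ∈ Subgroup.normalizer ((Subgroup.zpowers x : Subgroup G) : Set G),
      ∀ k ∈ K, n * k * n⁻¹ ∈ K :=
    fun n hn k hk => Cfsg.Agent.Helper75.lat_K_normal p x hx K h.hK h.hC n hn k hk
  have hNK' : ∀ n ∈ Subgroup.normalizer ((Subgroup.zpowers x : Subgroup G) : Set G),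
      ∀ k ∈ K, n⁻¹ * k * n ∈ K := by
    intro n hn k hk
    have := hNK n⁻¹ (inv_mem hn) k hk
    rwa [inv_inv] at this
  -- representatives
  have hFmem : ∀ u : F, ∃ n : G, n * x * n⁻¹ = x ^ ((u : (ZMod p)ˣ) : ZMod p).val := by
    intro u
    have h1 : (u : (ZMod p)ˣ) ∈ (F : Set (ZMod p)ˣ) := u.2
    rw [hF] at h1
    exact h1
  choose nu hnu using hFmem
  have hnuN : ∀ u : F, nu u ∈ Subgroup.normalizer ((Subgroup.zpowers x : Subgroup G) : Set G) :=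
    fun u => Cfsg.Agent.Helper55.d1md_P_norm x (nu u) _ (hnu u)
  have hΨex : ∀ u : F, ∃ θ' : Cfsg.IrrCharacter K,
      thetaConj K (nu u) (θ : K → ℂ) (θ' : K → ℂ) := by
    intro u
    obtain ⟨θ', hθ'⟩ := Cfsg.Agent.Helper55.d1md_conj_irr K (nu u)⁻¹
      (hNK _ (inv_mem (hnuN u)))
      (by intro k hk; rw [inv_inv]; exact hNK (nu u) (hnuN u) k hk) θ
    refine ⟨θ', ?_⟩
    have h1 := Cfsg.Agent.Helper55.d1md_T_inv K (nu u)⁻¹ _ _ hθ'
    rwa [inv_inv] at h1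
  choose Ψ hΨ using hΨex
  -- two elements with the same conjugate of `x` give the same conjugate of `θ`
  have hL : ∀ (n m : G), n * x * n⁻¹ = m * x * m⁻¹ →
      n ∈ Subgroup.normalizer ((Subgroup.zpowers x : Subgroup G) : Set G) →
      m ∈ Subgroup.normalizer ((Subgroup.zpowers x : Subgroup G) : Set G) →
      ∀ θ' θ'' : Cfsg.IrrCharacter K, thetaConj K n (θ : K → ℂ) (θ' : K → ℂ) →
        thetaConj K m (θ : K → ℂ) (θ'' : K → ℂ) → θ' = θ'' := by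
    intro n m hnm hn hm θ' θ'' h1 h2
    have hc : (m⁻¹ * n) * x = x * (m⁻¹ * n) := by
      have h3 : m⁻¹ * n * x = m⁻¹ * (n * x * n⁻¹) * n := by group
      rw [h3, hnm]
      group
    have h3 : thetaConj K (m⁻¹ * n) (θ : K → ℂ) (θ : K → ℂ) :=
      Cfsg.Agent.Helper55.d1md_T_cent p x K h θ _ hc
    have h4 : thetaConj K (m * (m⁻¹ * n)) (θ : K → ℂ) (θ'' : K → ℂ) :=
      Cfsg.Agent.Helper55.d1md_T_mul K (m⁻¹ * n) m (hNK _ (mul_mem (inv_mem hm) hn)) _ _ _ h3 h2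
    have h5 : m * (m⁻¹ * n) = n := by group
    rw [h5] at h4
    exact Subtype.ext (d1fo_unique K n (hNK' n hn) _ _ _ h1 h4)
  have hEF : E ≤ F := by
    intro u hu
    have h1 : u ∈ (E : Set (ZMod p)ˣ) := hu
    rw [hE] at h1
    obtain ⟨n, hn, -⟩ := h1
    have h2 : u ∈ (F : Set (ZMod p)ˣ) := by rw [hF]; exact ⟨n, hn⟩
    exact h2
  have hcard : Nat.card ((Orb : Set (Cfsg.IrrCharacter K))) = E.relIndex F := by
    refine d1sa_relIndex_eq_card E F (Orb : Set (Cfsg.IrrCharacter K)) Ψ ?_ ?_ ?_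
    · intro u
      rw [Finset.mem_coe, hOrb]
      exact ⟨nu u, by rw [hnu u]; exact Subgroup.npow_mem_zpowers x _, hΨ u⟩
    · intro θ' hθ'
      rw [Finset.mem_coe, hOrb] at hθ'
      obtain ⟨n, hn, hθn⟩ := hθ'
      obtain ⟨j, hj⟩ := mem_powers_iff_mem_zpowers.mpr hn
      obtain ⟨u, hu⟩ := d1sa_exists_unit hx hx1 n j hj.symm
      have huF : u ∈ F := by
        have h2 : u ∈ (F : Set (ZMod p)ˣ) := by rw [hF]; exact ⟨n, hu⟩
        exact h2
      refine ⟨⟨u, huF⟩, ?_⟩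
      exact hL (nu ⟨u, huF⟩) n (by rw [hnu, hu]) (hnuN _)
        (Cfsg.Agent.Helper55.d1md_P_norm x n _ hu) _ _ (hΨ _) hθn
    · intro u u'
      constructor
      · intro hΨeq
        have hm1 : thetaConj K ((nu u)⁻¹) (Ψ u : K → ℂ) (θ : K → ℂ) :=
          Cfsg.Agent.Helper55.d1md_T_inv K (nu u) _ _ (hΨ u)
        have hm2 : thetaConj K (nu u') (θ : K → ℂ) (Ψ u : K → ℂ) := by
          rw [hΨeq]; exact hΨ u'
        have hm3 : thetaConj K ((nu u)⁻¹ * nu u') (θ : K → ℂ) (θ : K → ℂ) :=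
          Cfsg.Agent.Helper55.d1md_T_mul K (nu u') (nu u)⁻¹ (hNK _ (hnuN u')) _ _ _ hm2 hm1
        have hm4 : ((nu u)⁻¹ * nu u') * x * ((nu u)⁻¹ * nu u')⁻¹
            = x ^ (((u : (ZMod p)ˣ)⁻¹ * (u' : (ZMod p)ˣ) : (ZMod p)ˣ) : ZMod p).val :=
          Cfsg.Agent.Helper55.d1md_P_mul p x hx (nu u') (nu u)⁻¹ u' (u : (ZMod p)ˣ)⁻¹ (hnu u')
            (Cfsg.Agent.Helper55.d1md_P_inv p x hx (nu u) u (hnu u))
        have h1 : ((u : (ZMod p)ˣ)⁻¹ * (u' : (ZMod p)ˣ)) ∈ (E : Set (ZMod p)ˣ) := by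
          rw [hE]
          exact ⟨(nu u)⁻¹ * nu u', hm4, hm3⟩
        exact h1
      · intro hmem
        have h1 : ((u : (ZMod p)ˣ)⁻¹ * (u' : (ZMod p)ˣ)) ∈ (E : Set (ZMod p)ˣ) := hmem
        rw [hE] at h1
        obtain ⟨m, hm, hθm⟩ := h1
        have h2 : (nu u * m) * x * (nu u * m)⁻¹
            = x ^ (((u : (ZMod p)ˣ) * ((u : (ZMod p)ˣ)⁻¹ * (u' : (ZMod p)ˣ)) : (ZMod p)ˣ) :
              ZMod p).val :=
          Cfsg.Agent.Helper55.d1md_P_mul p x hx m (nu u) _ _ hm (hnu u)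
        rw [mul_inv_cancel_left] at h2
        have hmN : m ∈ Subgroup.normalizer ((Subgroup.zpowers x : Subgroup G) : Set G) :=
          Cfsg.Agent.Helper55.d1md_P_norm x m _ hm
        have h3 : thetaConj K (nu u * m) (θ : K → ℂ) (Ψ u : K → ℂ) :=
          Cfsg.Agent.Helper55.d1md_T_mul K m (nu u) (hNK m hmN) _ _ _ hθm (hΨ u)
        exact hL (nu u * m) (nu u') (by rw [h2, hnu u']) (mul_mem (hnuN u) hmN) (hnuN u') _ _
          h3 (hΨ u')
  have h1 : Nat.card ((Orb : Set (Cfsg.IrrCharacter K))) = Orb.card := by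
    rw [Nat.card_coe_set_eq, Set.ncard_coe_finset]
  have h2 := Subgroup.relIndex_mul_relIndex (⊥ : Subgroup (ZMod p)ˣ) E F bot_le hEF
  rw [Subgroup.relIndex_bot_left, Subgroup.relIndex_bot_left] at h2
  rw [← h1, hcard, mul_comm]
  exact h2

end Cfsg.Agent.Helper65
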