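import Mathlib
import Cfsg.Prelude.Def_Characters
import Cfsg.Prelude.Def_Blocks
import Cfsg.Agent.Helper77.D1Defs2
import Cfsg.Agent.Helper29.D1IA
import Cfsg.Agent.Helper15.AlgIntMod
import Cfsg.Agent.Helper78.Counting
import Cfsg.Agent.Helper75.Eigen

/-!
# CALL S4442B, piece II: a character of degree prime to `p` lies in some `blkTheta K x θ`

For `x` of order `p` and `χ` irreducible of degree prime to `p`, `χ x ≠ 0` (it is a sum of
`χ 1` `p`-th roots of unity, each congruent to `1` modulo a maximal ideal over `p`), and the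
expansion of `k ↦ χ (x k)` along `Irr(K)` (piece IA) gives a `θ` with nonzero coefficient.
-/

universe u

set_option autoImplicit false

open Cfsg Cfsg.Agent.Helper77
open scoped ComplexConjugate

namespace Cfsg.Agent.Helper65

/-- A sum of `p`-th roots of unity is an algebraic integer congruent to the number of terms
modulo a maximal ideal over `p`. -/
theorem d1ii_sum_roots (p : ℕ) (M : Ideal Cfsg.AlgInt) (hM : Cfsg.IsPModular p M)
    (s : Multiset ℂ) (hs : ∀ μ ∈ s, μ ^ p = 1) :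
    ∃ a : Cfsg.AlgInt, (a : ℂ) = s.sum ∧
      Ideal.Quotient.mk M a = ((Multiset.card s : ℕ) : Cfsg.AlgInt ⧸ M) := by
  have hp : p.Prime := hM.1
  have : M.IsMaximal := hM.2.1
  have := Cfsg.Agent.Helper15.algInt_charP p M hM
  have : Fact p.Prime := ⟨hp⟩
  induction s using Multiset.induction_on with
  | empty => exact ⟨0, by simp, by simp⟩
  | cons μ s ih =>
    obtain ⟨a, ha1, ha2⟩ := ih (fun ν hν => hs ν (Multiset.mem_cons_of_mem hν))
    have hμ : μ ^ p = 1 := hs μ (Multiset.mem_cons_self μ s)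
    have hμint : IsIntegral ℤ μ := Cfsg.Agent.Helper15.isIntegral_of_pow_eq_one hp.pos hμ
    obtain ⟨m, hm0⟩ : ∃ m : Cfsg.AlgInt, (m : ℂ) = μ := ⟨⟨μ, hμint⟩, rfl⟩
    have hm : m ^ p = 1 := by
      apply Subtype.ext
      rw [SubmonoidClass.coe_pow, hm0, hμ]
      rfl
    have hmk : Ideal.Quotient.mk M m = 1 := by
      have h1 : (Ideal.Quotient.mk M m - 1) ^ p = 0 := by
        rw [sub_pow_char, one_pow, ← map_pow, hm, map_one, sub_self]
      exact sub_eq_zero.mp ((pow_eq_zero_iff hp.ne_zero).mp h1)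
    refine ⟨m + a, ?_, ?_⟩
    · rw [Multiset.sum_cons, ← ha1, ← hm0]
      rfl
    · rw [map_add, hmk, ha2, Multiset.card_cons]
      push_cast
      ring

variable {G : Type u} [Group G] [Finite G]

/-- An irreducible character of degree prime to `p` does not vanish at elements of order
dividing `p`. -/
theorem d1ii_ne_zero (p : ℕ) [Fact p.Prime] (x : G) (hx : x ^ p = 1)
    (χ : Cfsg.IrrCharacter G) (hχ : ¬ p ∣ Cfsg.charDegree (χ : G → ℂ)) :
    (χ : G → ℂ) x ≠ 0 := by
  have hp : p.Prime := Fact.out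
  obtain ⟨M, hM⟩ := Cfsg.Agent.Helper78.exists_isPModular p hp
  obtain ⟨n, ρ, -, hρ⟩ := χ.2
  have hf : (ρ x) ^ p = 1 := by rw [← map_pow, hx, map_one]
  obtain ⟨s, hs1, hs2, hs3⟩ :=
    Cfsg.Agent.Helper75.exists_eigen_multiset (ρ x) p hp.ne_zero hf
  have h1 := hs3 1
  simp only [pow_one, Multiset.map_id'] at h1
  have hχx : (χ : G → ℂ) x = s.sum := by rw [← hρ]; exact h1
  have hχ1 : (χ : G → ℂ) 1 = (n : ℂ) := by
    rw [← hρ]
    simp [Representation.character]
  have hdeg : Cfsg.charDegree (χ : G → ℂ) = n := by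
    unfold Cfsg.charDegree
    rw [hχ1]
    simp
  have hcard : Multiset.card s = n := by rw [hs2]; simp
  obtain ⟨a, ha1, ha2⟩ := d1ii_sum_roots p M hM s hs1
  intro h0
  have ha0 : a = 0 := by
    apply Subtype.ext
    rw [ha1, ← hχx, h0]
    rfl
  rw [ha0, map_zero, hcard] at ha2
  have := Cfsg.Agent.Helper15.algInt_charP p M hM
  apply hχ
  rw [hdeg]
  exact (CharP.cast_eq_zero_iff (Cfsg.AlgInt ⧸ M) p n).mp ha2.symm

theorem d1_blk_exists (p : ℕ) [Fact p.Prime] (x : G) (K : Subgroup G) (h : D1Hyp p x K)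
    (χ : Cfsg.IrrCharacter G) (hχ : ¬ p ∣ Cfsg.charDegree (χ : G → ℂ)) :
    ∃ θ : Cfsg.IrrCharacter K, χ ∈ blkTheta K x (θ : K → ℂ) := by
  have hxp : x ^ p = 1 := by rw [← h.hx]; exact pow_orderOf_eq_one x
  have hne := d1ii_ne_zero p x hxp χ hχ
  by_contra hcon
  push Not at hcon
  apply hne
  have hexp := Cfsg.Agent.Helper29.d1_dco_expand p x K h χ 1 1
  simp only [pow_one, Subgroup.coe_one, mul_one] at hexp
  rw [hexp]
  apply finsum_eq_zero_of_forall_eq_zero
  intro θ
  have h0 : dco K (θ : K → ℂ) (χ : G → ℂ) x = 0 := by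
    by_contra h'
    exact hcon θ h'
  rw [h0, zero_mul]

end Cfsg.Agent.Helper65
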