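import Mathlib
import Cfsg.Prelude.Def_Characters
import Cfsg.Agent.Helper75.RationalChar

/-!
# CALL S4442L, piece LL: enlarging the fixed roots of unity of a Galois automorphism

If `τ ∈ Aut(ℂ)` fixes the `M₀`-th roots of unity, `|G| ∣ p M₀`, `M₀ ∣ M₁` and `p ∤ M₁`, then
there is `τ'` fixing all `M₁`-th roots of unity and agreeing with `τ` on the values of the
irreducible characters of `G`.
-/

universe u

set_option autoImplicit false

open Cfsg Matrix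
open scoped ComplexConjugate

namespace Cfsg.Agent.Helper65

theorem d1_galois_enlarge {G : Type u} [Group G] [Finite G] (p : ℕ) [Fact p.Prime] (M₀ M₁ : ℕ)
    (hM₁ : ¬ p ∣ M₁) (hdvd : M₀ ∣ M₁) (hGM : Nat.card G ∣ p * M₀)
    (τ : ℂ ≃+* ℂ) (hτ : ∀ w : ℂ, w ^ M₀ = 1 → τ w = w) :
    ∃ τ' : ℂ ≃+* ℂ, (∀ w : ℂ, w ^ M₁ = 1 → τ' w = w) ∧
      ∀ (χ : Cfsg.IrrCharacter G) (g : G), τ' ((χ : G → ℂ) g) = τ ((χ : G → ℂ) g) := by
  have hp : p.Prime := Fact.out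
  have hM₁0 : M₁ ≠ 0 := by rintro rfl; exact hM₁ (dvd_zero p)
  have hM₀0 : M₀ ≠ 0 := by rintro rfl; exact hM₁0 (zero_dvd_iff.mp hdvd)
  have hpM₀ : ¬ p ∣ M₀ := fun h => hM₁ (h.trans hdvd)
  have hn : p * M₁ ≠ 0 := Nat.mul_ne_zero hp.ne_zero hM₁0
  obtain ⟨j, hjcop, hj⟩ := Cfsg.Agent.Helper75.exists_pow_of_ringEquiv τ (p * M₁) hn
  -- `j ≡ 1 mod M₀`
  have hj1 : j ≡ 1 [MOD M₀] := by
    have hζ := Complex.isPrimitiveRoot_exp M₀ hM₀0
    obtain ⟨ζ, hζdef⟩ : ∃ ζ : ℂ, ζ = Complex.exp (2 * ↑Real.pi * Complex.I / ↑M₀) := ⟨_, rfl⟩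
    rw [← hζdef] at hζ
    have h1 : ζ ^ M₀ = 1 := hζ.pow_eq_one
    have h2 : ζ ^ (p * M₁) = 1 := by
      obtain ⟨t, rfl⟩ := hdvd
      rw [← mul_assoc, mul_comm p M₀, mul_assoc, pow_mul, h1, one_pow]
    have h3 : ζ ^ j = ζ := by rw [← hj ζ h2, hτ ζ h1]
    have hj0 : 1 ≤ j := by
      rcases Nat.eq_zero_or_pos j with h | h
      · exfalso
        rw [h, Nat.coprime_zero_left] at hjcop
        have h5 : p ∣ 1 := ⟨M₁, hjcop.symm⟩
        exact hp.one_lt.ne' (Nat.dvd_one.mp h5)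
      · exact h
    have h4 : ζ ^ (j - 1) = 1 := by
      have h5 : ζ ^ (j - 1) * ζ = 1 * ζ := by
        rw [← pow_succ, Nat.sub_add_cancel hj0, one_mul]; exact h3
      exact mul_right_cancel₀ (hζ.ne_zero hM₀0) h5
    exact ((Nat.modEq_iff_dvd' hj0).mpr ((hζ.pow_eq_one_iff_dvd _).mp h4)).symm
  have hcop : Nat.Coprime p M₁ := (Nat.Prime.coprime_iff_not_dvd hp).mpr hM₁
  obtain ⟨j', hj'p, hj'M⟩ := Nat.chineseRemainder hcop j 1
  have hj'cop : Nat.Coprime j' (p * M₁) := by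
    apply Nat.Coprime.mul_right
    · have h1 : Nat.Coprime j p := Nat.Coprime.coprime_dvd_right (dvd_mul_right p M₁) hjcop
      unfold Nat.Coprime at h1 ⊢
      rw [hj'p.gcd_eq]; exact h1
    · unfold Nat.Coprime
      rw [hj'M.gcd_eq]; exact Nat.gcd_one_left M₁
  obtain ⟨τ', hτ'⟩ := Cfsg.Agent.Helper75.exists_ringEquiv_pow (p * M₁) hn j' hj'cop
  refine ⟨τ', ?_, ?_⟩
  · intro w hw
    have hwn : w ^ (p * M₁) = 1 := by rw [mul_comm, pow_mul, hw, one_pow]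
    rw [hτ' w hwn, pow_eq_pow_mod j' hw, show j' % M₁ = 1 % M₁ from hj'M,
      ← pow_eq_pow_mod 1 hw, pow_one]
  · intro χ g
    obtain ⟨n, ρ, -, hρ⟩ := χ.2
    have hm : Nat.card G ≠ 0 := Nat.card_pos.ne'
    have hf : (ρ g) ^ Nat.card G = 1 := by rw [← map_pow, pow_card_eq_one', map_one]
    obtain ⟨s, hs1, -, hs3⟩ :=
      Cfsg.Agent.Helper75.exists_eigen_multiset (ρ g) (Nat.card G) hm hf
    have h1 := hs3 1
    simp only [pow_one, Multiset.map_id'] at h1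
    have hχ : (χ : G → ℂ) g = s.sum := by
      rw [← hρ]; exact h1
    rw [hχ, map_multiset_sum, map_multiset_sum]
    congr 1
    apply Multiset.map_congr rfl
    intro μ hμ
    have hμG := hs1 μ hμ
    have hμ0 : μ ^ (p * M₀) = 1 := by
      obtain ⟨t, ht⟩ := hGM
      rw [ht, pow_mul, hμG, one_pow]
    have hμn : μ ^ (p * M₁) = 1 := by
      obtain ⟨t, rfl⟩ := hdvd
      rw [← mul_assoc, pow_mul, hμ0, one_pow]
    rw [hτ' μ hμn, hj μ hμn]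
    have hmod : j' ≡ j [MOD p * M₀] := by
      have hcop0 : Nat.Coprime p M₀ := (Nat.Prime.coprime_iff_not_dvd hp).mpr hpM₀
      apply (Nat.modEq_and_modEq_iff_modEq_mul hcop0).mp
      exact ⟨hj'p, (hj'M.of_dvd hdvd).trans hj1.symm⟩
    rw [pow_eq_pow_mod j' hμ0, pow_eq_pow_mod j hμ0,
      show j' % (p * M₀) = j % (p * M₀) from hmod]

end Cfsg.Agent.Helper65
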