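import Mathlib
import Cfsg.Agent.Helper75.LatGroup

/-!
# CALL S4442L, piece LM: a complement of `⟨x⟩` in its normalizer containing `K`

`x` of prime order `p`, `C_G(x) = ⟨x⟩ K` with `K` a `p'`-group and `|N_G(⟨x⟩)| = n₀ p`,
`p ∤ n₀`: Schur-Zassenhaus gives a complement `H` of `⟨x⟩` in the normalizer; it contains `K`
and is generated modulo `K` by one element.
-/

universe u

set_option autoImplicit false

open Cfsg Matrix
open scoped ComplexConjugate

namespace Cfsg.Agent.Helper65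

theorem d1_complement {G : Type u} [Group G] [Finite G] (p : ℕ) [Fact p.Prime] (x : G)
    (hx : orderOf x = p) (K : Subgroup G) (hK : ¬ p ∣ Nat.card K)
    (hC : ∀ g : G, g * x = x * g ↔ ∃ i : ℕ, ∃ k ∈ K, g = x ^ i * k) (n₀ : ℕ)
    (hn₀ : n₀ * p = Nat.card (Subgroup.normalizer ((Subgroup.zpowers x : Subgroup G) : Set G)))
    (hpn₀ : ¬ p ∣ n₀) :
    ∃ (H : Subgroup G) (z : G),
      H ≤ Subgroup.normalizer ((Subgroup.zpowers x : Subgroup G) : Set G) ∧ K ≤ H ∧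
      Nat.card H = n₀ ∧ z ∈ H ∧ (∀ h ∈ H, ∃ i : ℕ, ∃ k ∈ K, h = z ^ i * k) ∧
      (∀ n ∈ Subgroup.normalizer ((Subgroup.zpowers x : Subgroup G) : Set G),
        ∃ i : ℕ, ∃ h ∈ H, n = x ^ i * h) := by
  classical
  have hp : p.Prime := Fact.out
  obtain ⟨Nm, hNm⟩ : ∃ Nm : Subgroup G,
      Nm = Subgroup.normalizer ((Subgroup.zpowers x : Subgroup G) : Set G) := ⟨_, rfl⟩
  rw [← hNm] at hn₀ ⊢
  have hPle : Subgroup.zpowers x ≤ Nm := by rw [hNm]; exact Subgroup.le_normalizer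
  obtain ⟨P', hP'⟩ : ∃ P' : Subgroup Nm, P' = (Subgroup.zpowers x).subgroupOf Nm := ⟨_, rfl⟩
  have hP'n : P'.Normal := by
    rw [hP']; subst hNm; exact Subgroup.normal_in_normalizer
  have hmemP' : ∀ a : Nm, a ∈ P' ↔ (a : G) ∈ Subgroup.zpowers x := by
    intro a; rw [hP']; exact Subgroup.mem_subgroupOf
  have hcardP' : Nat.card P' = p := by
    rw [hP', Nat.card_congr (Subgroup.subgroupOfEquivOfLe hPle).toEquiv, Nat.card_zpowers, hx]
  have hidx : P'.index = n₀ := by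
    have h1 := P'.card_mul_index
    rw [hcardP', ← hn₀] at h1
    exact Nat.eq_of_mul_eq_mul_left hp.pos (by rw [h1, mul_comm])
  have hcop : (Nat.card P').Coprime P'.index := by
    rw [hcardP', hidx]; exact (Nat.Prime.coprime_iff_not_dvd hp).mpr hpn₀
  obtain ⟨H', hH'⟩ := Subgroup.exists_right_complement'_of_coprime hcop
  have hcardH' : Nat.card H' = n₀ := by
    have h1 := hH'.card_mul_card
    rw [hcardP', ← hn₀] at h1
    exact Nat.eq_of_mul_eq_mul_left hp.pos (by rw [h1, mul_comm])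
  have hdisj : ∀ a : Nm, a ∈ P' → a ∈ H' → a = 1 := by
    intro a ha1 ha2
    exact (Subgroup.disjoint_def.mp hH'.disjoint) ha1 ha2
  have hdec : ∀ g : Nm, ∃ u ∈ P', ∃ h ∈ H', g = u * h := by
    intro g
    obtain ⟨⟨u, h⟩, huh, -⟩ := (Subgroup.isComplement_iff_existsUnique.mp hH') g
    exact ⟨u.1, u.2, h.1, h.2, huh.symm⟩
  -- `K ≤ Nm`
  have hKcomm : ∀ k ∈ K, k * x = x * k := fun k hk => (hC k).mpr ⟨0, k, hk, by simp⟩
  have hKNm : ∀ k ∈ K, k ∈ Nm := by
    intro k hk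
    have h1 : k ∈ Subgroup.centralizer ((Subgroup.zpowers x : Subgroup G) : Set G) := by
      rw [Subgroup.mem_centralizer_iff]
      rintro h ⟨n, rfl⟩
      exact ((Commute.zpow_right (show Commute k x from hKcomm k hk) n)).eq.symm
    rw [hNm]
    exact Subgroup.centralizer_le_normalizer _ h1
  -- `K ∩ ⟨x⟩ = 1`
  have hKP : ∀ g : G, g ∈ K → g ∈ Subgroup.zpowers x → g = 1 := by
    intro g hg1 hg2
    have h1 : orderOf g ∣ Nat.card K := Subgroup.orderOf_dvd_natCard K hg1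
    have h2 : orderOf g ∣ p := by
      have := Subgroup.orderOf_dvd_natCard _ hg2
      rwa [Nat.card_zpowers, hx] at this
    rcases (Nat.dvd_prime hp).mp h2 with h3 | h3
    · exact orderOf_eq_one_iff.mp h3
    · exact absurd (h3 ▸ h1) hK
  -- `K ≤ H'`
  have hKH' : ∀ k (hk : k ∈ K), (⟨k, hKNm k hk⟩ : Nm) ∈ H' := by
    intro k hk
    obtain ⟨u, hu, h, hh, huh⟩ := hdec ⟨k, hKNm k hk⟩
    have huz : (u : G) ∈ Subgroup.zpowers x := (hmemP' u).mp hu
    -- `u` commutes with `k`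
    have hcu : Commute (u : G) k := by
      obtain ⟨n, hn⟩ := huz
      rw [← hn]
      exact (Commute.zpow_right (show Commute k x from hKcomm k hk) n).symm
    have hkG : k = (u : G) * (h : G) := by
      have := congrArg (Subtype.val : Nm → G) huh
      simpa using this
    have hhG : (h : G) = (u : G)⁻¹ * k := by rw [hkG]; group
    have hcuh : Commute (u : G) (h : G) := by
      rw [hhG]
      exact (Commute.inv_right (Commute.refl _)).mul_right hcu
    have hhpow : (h : G) ^ n₀ = 1 := by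
      have h1 : (⟨h, hh⟩ : H') ^ Nat.card H' = 1 := pow_card_eq_one'
      rw [hcardH'] at h1
      have h2 := congrArg (fun a : H' => ((a : Nm) : G)) h1
      simpa using h2
    have hupow : (u : G) ^ n₀ = k ^ n₀ := by
      rw [hkG, hcuh.mul_pow, hhpow, mul_one]
    have hu1 : (u : G) ^ n₀ = 1 := by
      apply hKP
      · rw [hupow]; exact K.pow_mem hk _
      · exact (Subgroup.zpowers x).pow_mem huz _
    have hu2 : (u : G) ^ p = 1 := by
      have h1 : (⟨u, hu⟩ : P') ^ Nat.card P' = 1 := pow_card_eq_one'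
      rw [hcardP'] at h1
      have h2 := congrArg (fun a : P' => ((a : Nm) : G)) h1
      simpa using h2
    have hu3 : (u : G) ^ Nat.gcd n₀ p = 1 := pow_gcd_eq_one.mpr ⟨hu1, hu2⟩
    have hg : Nat.gcd n₀ p = 1 :=
      Nat.Coprime.symm ((Nat.Prime.coprime_iff_not_dvd hp).mpr hpn₀)
    rw [hg, pow_one] at hu3
    have hu4 : u = 1 := Subtype.ext hu3
    rw [hu4, one_mul] at huh
    rw [huh]; exact hh
  -- the generator
  obtain ⟨z₀, hz₀N, -, hgen⟩ := Cfsg.Agent.Helper75.lat_exists_gen p x hx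
  rw [← hNm] at hz₀N hgen
  obtain ⟨u₀, hu₀, z', hz', hz₀⟩ := hdec ⟨z₀, hz₀N⟩
  have hxNm : x ∈ Nm := hPle (Subgroup.mem_zpowers x)
  have hxP' : (⟨x, hxNm⟩ : Nm) ∈ P' := (hmemP' _).mpr (Subgroup.mem_zpowers x)
  refine ⟨H'.map Nm.subtype, (z' : G), ?_, ?_, ?_, ?_, ?_, ?_⟩
  · rintro _ ⟨a, -, rfl⟩
    exact a.2
  · intro k hk
    exact ⟨⟨k, hKNm k hk⟩, hKH' k hk, rfl⟩
  · rw [Subgroup.card_map_of_injective Nm.subtype_injective, hcardH']
  · exact ⟨z', hz', rfl⟩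
  · rintro _ ⟨h', hh', rfl⟩
    obtain ⟨l, c, hc, hrc⟩ := hgen (h' : G) h'.2
    obtain ⟨i, k, hk, rfl⟩ := (hC c).mp hc
    refine ⟨l, k, hk, ?_⟩
    have heq : h' = (⟨z₀, hz₀N⟩ : Nm) ^ l * ((⟨x, hxNm⟩ : Nm) ^ i * ⟨k, hKNm k hk⟩) := by
      apply Subtype.ext
      simpa using hrc
    have hq : (QuotientGroup.mk' P') h' = (QuotientGroup.mk' P') (z' ^ l * ⟨k, hKNm k hk⟩) := by
      have h1 : (QuotientGroup.mk' P') (⟨x, hxNm⟩ : Nm) = 1 :=
        (QuotientGroup.eq_one_iff _).mpr hxP'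
      have h2 : (QuotientGroup.mk' P') u₀ = 1 := (QuotientGroup.eq_one_iff _).mpr hu₀
      rw [heq, hz₀]
      simp only [map_mul, map_pow, h1, h2, one_pow, one_mul]
    have hmem1 : h'⁻¹ * (z' ^ l * ⟨k, hKNm k hk⟩) ∈ P' := by
      have := QuotientGroup.eq.mp hq
      exact this
    have hmem2 : h'⁻¹ * (z' ^ l * ⟨k, hKNm k hk⟩) ∈ H' :=
      H'.mul_mem (H'.inv_mem hh') (H'.mul_mem (H'.pow_mem hz' l) (hKH' k hk))
    have h3 := hdisj _ hmem1 hmem2
    have h4 : h' = z' ^ l * ⟨k, hKNm k hk⟩ := by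
      rw [inv_mul_eq_one] at h3; exact h3
    have h5 := congrArg (Subtype.val : Nm → G) h4
    simpa using h5
  · intro n hn
    obtain ⟨u, hu, h, hh, huh⟩ := hdec ⟨n, hn⟩
    have huz : (u : G) ∈ Subgroup.zpowers x := (hmemP' u).mp hu
    obtain ⟨i, hi⟩ := mem_powers_iff_mem_zpowers.mpr huz
    refine ⟨i, (h : G), ⟨h, hh, rfl⟩, ?_⟩
    have := congrArg (Subtype.val : Nm → G) huh
    simp only [Subgroup.coe_mul] at this
    rw [this]
    congr 1
    exact hi.symm
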