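import Mathlib
import Cfsg.Agent.Helper19.ThompsonThesis
import Cfsg.Agent.Helper66.PGroupMisc

/-!
The Hughes–Thompson–Kegel theorem in inner form: if `G` is a normal subgroup of prime index `p`
of a finite group `Γ` and every element of `Γ` outside `G` has order `p`, then `G` is nilpotent.
(Consequence: a finite group with a splitting automorphism of prime order is nilpotent.)
-/

set_option autoImplicit false

namespace Cfsg.Agent.Helper65

open Cfsg.Agent.Helper19

universe u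

/-- A homomorphic preimage (injective) of a nilpotent group is nilpotent. -/
theorem isNilpotent_of_injective {G H : Type*} [Group G] [Group H] (f : G →* H)
    (hf : Function.Injective f) [Group.IsNilpotent H] : Group.IsNilpotent G :=
  (Group.isNilpotent_congr (MonoidHom.ofInjective hf)).mpr inferInstance

/-- Elements of exponent `p` with equal `i`-th powers, `0 < i < p`, are equal. -/
theorem eq_of_pow_eq_of_lt {Γ : Type*} [Group Γ] {p i : ℕ} (hp : p.Prime) (hi0 : 0 < i)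
    (hip : i < p) {a b : Γ} (ha : a ^ p = 1) (hb : b ^ p = 1) (h : a ^ i = b ^ i) : a = b := by
  have hcop : Nat.Coprime i p :=
    Nat.Coprime.symm ((Nat.Prime.coprime_iff_not_dvd hp).mpr (Nat.not_dvd_of_pos_of_lt hi0 hip))
  obtain ⟨j, -, hj⟩ := Nat.exists_mul_mod_eq_one_of_coprime hcop hp.one_lt
  have key : ∀ c : Γ, c ^ p = 1 → c ^ (i * j) = c := by
    intro c hc
    have := Nat.div_add_mod (i * j) p
    rw [hj] at this
    rw [← this, pow_add, pow_mul, hc, one_pow, one_mul, pow_one]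
  rw [← key a ha, ← key b hb, pow_mul, h, pow_mul]

/-- Elements of order prime to `p` lie in `G`. -/
theorem mem_of_coprime_order {Γ : Type*} [Group Γ] {p : ℕ} (G : Subgroup Γ)
    (hsp : ∀ g : Γ, g ∉ G → g ^ p = 1) {x : Γ} (hx : (orderOf x).Coprime p) : x ∈ G := by
  by_contra h
  have h1 : orderOf x ∣ p := orderOf_dvd_of_pow_eq_one (hsp x h)
  have h2 : orderOf x = 1 := Nat.Coprime.eq_one_of_dvd hx h1
  rw [orderOf_eq_one_iff] at h2
  exact h (h2 ▸ G.one_mem)

/-- A subgroup meeting `G` in a nilpotent group is `p`-nilpotent. -/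
theorem pnil_of_nil {Γ : Type u} [Group Γ] [Finite Γ] {p : ℕ} [Fact p.Prime] (G H : Subgroup Γ)
    (hsp : ∀ g : Γ, g ∉ G → g ^ p = 1) (hnil : Group.IsNilpotent ↥(H ⊓ G)) : PNil p H := by
  intro x hx y hy hxo hyo
  have := pNil_of_isNilpotent_subgroup (H ⊓ G) p
  exact this x ⟨hx, mem_of_coprime_order G hsp hxo⟩ y ⟨hy, mem_of_coprime_order G hsp hyo⟩ hxo hyo

/-- A normal subgroup of `Γ` inside `G` consisting of `p'`-elements is nilpotent
(Thompson's theorem on fixed-point-free automorphisms of prime order). -/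
theorem nil_of_coprime {Γ : Type u} [Group Γ] [Finite Γ] {p : ℕ} [hp : Fact p.Prime]
    (G N : Subgroup Γ) [hN : N.Normal] (hNG : N ≤ G)
    (hsp : ∀ g : Γ, g ∉ G → g ^ p = 1) (t : Γ) (ht : t ∉ G)
    (hcop : ∀ x ∈ N, (orderOf x).Coprime p) : Group.IsNilpotent N := by
  let φ : N →* N := (MulAut.conjNormal t : MulAut N).toMonoidHom
  have hφ : ∀ x : N, ((φ x : N) : Γ) = t * x.1 * t⁻¹ := fun x => rfl
  have hiter : ∀ (k : ℕ) (x : N), (((⇑φ)^[k] x : N) : Γ) = t ^ k * x.1 * (t ^ k)⁻¹ := by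
    intro k
    induction k with
    | zero => intro x; simp
    | succ k ih =>
      intro x
      rw [Function.iterate_succ_apply', hφ, ih, pow_succ']
      group
  refine thompson_thesis hp.out φ ⟨?_, ?_⟩
  · intro x hx
    have h1 : t * x.1 * t⁻¹ = x.1 := by rw [← hφ, hx]
    have h2 : Commute x.1 t := by
      show x.1 * t = t * x.1
      calc x.1 * t = (t * x.1 * t⁻¹) * t := by rw [h1]
        _ = t * x.1 := by group
    have h3 : (x.1 * t) ^ p = 1 := hsp _ (fun h => ht (by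
      have := G.mul_mem (G.inv_mem (hNG x.2)) h
      simpa using this))
    rw [h2.mul_pow, hsp t ht, mul_one] at h3
    have h4 : orderOf x.1 ∣ p := orderOf_dvd_of_pow_eq_one h3
    have h5 := Nat.Coprime.eq_one_of_dvd (hcop x.1 x.2) h4
    exact Subtype.ext (orderOf_eq_one_iff.mp h5)
  · intro x
    apply Subtype.ext
    rw [hiter, hsp t ht]
    simp

/-- The product lemma: if `Y ≤ G` is normalized by `ψ ∉ G` and `M ≤ G` is an abelian normal
subgroup, then `v ^ |Y|` is centralized by `Y` for every `v ∈ M`. -/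
theorem prod_lemma {Γ : Type*} [Group Γ] (p : ℕ) [hp : Fact p.Prime] (G M : Subgroup Γ)
    [hMn : M.Normal] (hMG : M ≤ G) (hMc : ∀ a ∈ M, ∀ b ∈ M, a * b = b * a)
    (hsp : ∀ g : Γ, g ∉ G → g ^ p = 1) (Y : Subgroup Γ) [Finite Y] (hYG : Y ≤ G) (ψ : Γ)
    (hψ : ψ ∉ G) (hψY : ψ ∈ Subgroup.normalizer (Y : Set Γ)) (v : Γ) (hv : v ∈ M) (y : Γ)
    (hy : y ∈ Y) : y * v ^ Nat.card Y * y⁻¹ = v ^ Nat.card Y := by
  classical
  have hpp := hp.out
  let cg : CommGroup M :=
    { (inferInstance : Group M) with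
      mul_comm := fun a b => Subtype.ext (hMc a.1 a.2 b.1 b.2) }
  let c : Γ →* MulAut M := MulAut.conjNormal
  have hc : ∀ (g : Γ) (x : M), ((c g x : M) : Γ) = g * x.1 * g⁻¹ := fun g x => rfl
  have hcoe_mul : ∀ a b : M, ((a * b : M) : Γ) = a.1 * b.1 := fun a b => rfl
  have hnotG : ∀ (a g : Γ), a ∈ G → g ∉ G → a * g ∉ G := by
    intro a g ha hg h
    apply hg
    have := G.mul_mem (G.inv_mem ha) h
    simpa using this
  -- powers of `x g`
  have hpow : ∀ (g : Γ) (x : M) (k : ℕ),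
      (x.1 * g) ^ k = ((∏ i ∈ Finset.range k, c (g ^ i) x : M) : Γ) * g ^ k := by
    intro g x k
    induction k with
    | zero => simp
    | succ k ih =>
      rw [pow_succ, ih, Finset.prod_range_succ, hcoe_mul, hc, pow_succ]
      group
  have hsplit : ∀ (g : Γ), g ∉ G → ∀ x : M, ∏ i ∈ Finset.range p, c (g ^ i) x = 1 := by
    intro g hg x
    have h2 := hpow g x p
    rw [hsp _ (hnotG _ _ (hMG x.2) hg), hsp g hg, mul_one] at h2
    exact Subtype.ext h2.symm
  have : Fintype Y := Fintype.ofFinite Y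
  -- the maps `e i`
  have he_mem : ∀ (f : Y) (i : ℕ), (f.1 * ψ) ^ i * (ψ ^ i)⁻¹ ∈ Y := by
    intro f i
    induction i with
    | zero => simp
    | succ i ih =>
      have h1 : ψ ^ i * f.1 * (ψ ^ i)⁻¹ ∈ Y :=
        (Subgroup.mem_normalizer_iff.mp (Subgroup.pow_mem _ hψY i) f.1).mp f.2
      have e : (f.1 * ψ) ^ (i + 1) * (ψ ^ (i + 1))⁻¹ =
          ((f.1 * ψ) ^ i * (ψ ^ i)⁻¹) * (ψ ^ i * f.1 * (ψ ^ i)⁻¹) := by
        rw [pow_succ, pow_succ]
        group
      rw [e]
      exact Y.mul_mem ih h1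
  let e : ℕ → Y → Y := fun i f => ⟨(f.1 * ψ) ^ i * (ψ ^ i)⁻¹, he_mem f i⟩
  have he_inj : ∀ i, 0 < i → i < p → Function.Injective (e i) := by
    intro i hi0 hip f f' hff
    have h1 : (f.1 * ψ) ^ i = (f'.1 * ψ) ^ i := by
      have h0 : (f.1 * ψ) ^ i * (ψ ^ i)⁻¹ = (f'.1 * ψ) ^ i * (ψ ^ i)⁻¹ := congrArg Subtype.val hff
      exact mul_right_cancel h0
    have h2 : f.1 * ψ = f'.1 * ψ :=
      eq_of_pow_eq_of_lt hpp hi0 hip (hsp _ (hnotG _ _ (hYG f.2) hψ))
        (hsp _ (hnotG _ _ (hYG f'.2) hψ)) h1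
    exact Subtype.ext (mul_right_cancel h2)
  have he_bij : ∀ i, 0 < i → i < p → Function.Bijective (e i) := fun i h0 hip =>
    Finite.injective_iff_bijective.mp (he_inj i h0 hip)
  let W : M →* M := ∏ f : Y, (c f.1).toMonoidHom
  have hW : ∀ x : M, W x = ∏ f : Y, c f.1 x := by
    intro x
    rw [MonoidHom.finsetProd_apply]
    rfl
  have hA : ∀ i, 0 < i → i < p → ∀ x : M,
      ∏ f : Y, c ((f.1 * ψ) ^ i) x = W (c (ψ ^ i) x) := by
    intro i h0 hip x
    rw [hW, ← (he_bij i h0 hip).prod_comp (fun f : Y => c f.1 (c (ψ ^ i) x))]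
    apply Finset.prod_congr rfl
    intro f _
    have h1 : (f.1 * ψ) ^ i = (e i f).1 * ψ ^ i := by
      show _ = (f.1 * ψ) ^ i * (ψ ^ i)⁻¹ * ψ ^ i
      group
    rw [h1, map_mul]
    rfl
  let x : M := ⟨v, hv⟩
  have h1 : ∏ f : Y, ∏ i ∈ Finset.range p, c ((f.1 * ψ) ^ i) x = 1 := by
    apply Finset.prod_eq_one
    intro f _
    exact hsplit (f.1 * ψ) (hnotG _ _ (hYG f.2) hψ) x
  rw [Finset.prod_comm] at h1
  obtain ⟨m, hm⟩ : ∃ m, p = m + 1 := ⟨p - 1, by have := hpp.pos; omega⟩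
  rw [hm, Finset.prod_range_succ'] at h1
  have h2 : ∏ f : Y, c ((f.1 * ψ) ^ 0) x = x ^ Nat.card Y := by
    simp [Finset.prod_const, Nat.card_eq_fintype_card]
  have h3 : ∏ i ∈ Finset.range m, ∏ f : Y, c ((f.1 * ψ) ^ (i + 1)) x =
      ∏ i ∈ Finset.range m, W (c (ψ ^ (i + 1)) x) :=
    Finset.prod_congr rfl (fun i hi => hA (i + 1) (Nat.succ_pos i) (by
      have := Finset.mem_range.mp hi
      omega) x)
  have h4 : (∏ i ∈ Finset.range m, W (c (ψ ^ (i + 1)) x)) * W x = 1 := by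
    have h5 := hsplit ψ hψ x
    rw [hm, Finset.prod_range_succ'] at h5
    have h6 := congrArg W h5
    rw [map_mul, map_prod, map_one, pow_zero, map_one] at h6
    exact h6
  rw [h2, h3] at h1
  have h6 : x ^ Nat.card Y = W x := mul_left_cancel (h1.trans h4.symm)
  have h7 : c y (W x) = W x := by
    rw [hW, map_prod]
    have h8 := Equiv.prod_comp (Equiv.mulLeft (⟨y, hy⟩ : Y)) (fun f : Y => c f.1 x)
    rw [← h8]
    apply Finset.prod_congr rfl
    intro f _
    show c y (c f.1 x) = c (y * f.1) x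
    rw [map_mul]
    rfl
  rw [← h6] at h7
  have h8 := congrArg Subtype.val h7
  rw [hc] at h8
  exact h8

/-- The solvable case: a nontrivial normal `r`-subgroup of `Γ` inside `G` forces `G` nilpotent,
provided the proper quotients are known to be nilpotent. -/
theorem sol_case {Γ : Type u} [Group Γ] [Finite Γ] {p : ℕ} [hp : Fact p.Prime] (G : Subgroup Γ)
    [hGn : G.Normal] (hsp : ∀ g : Γ, g ∉ G → g ^ p = 1) (hGtop : G ≠ ⊤)
    (hQ : ∀ (U : Subgroup Γ) [U.Normal], U ≤ G → U ≠ ⊥ →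
      Group.IsNilpotent ↥(G.map (QuotientGroup.mk' U)))
    (r : ℕ) [hr : Fact r.Prime] (W : Subgroup Γ) [hWn : W.Normal] (hWG : W ≤ G) (hW : W ≠ ⊥)
    (hWr : IsPGroup r W) : Group.IsNilpotent G := by
  have hrp := hr.out
  let Z₀ : Subgroup Γ := W ⊓ Subgroup.centralizer (W : Set Γ)
  have hZ₀ne : Z₀ ≠ ⊥ := center_ne_bot hWr hW
  have hZ₀n : Z₀.Normal := by
    rw [← Subgroup.normalizer_eq_top_iff]
    have h1 := normalizer_le_normalizer_center W
    rw [Subgroup.normalizer_eq_top_iff.mpr hWn] at h1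
    exact top_le_iff.mp h1
  have hZ₀c : ∀ a ∈ Z₀, ∀ b ∈ Z₀, a * b = b * a := by
    intro a ha b hb
    exact Subgroup.mem_centralizer_iff.mp hb.2 a ha.1
  have hZ₀G : Z₀ ≤ G := inf_le_left.trans hWG
  have hZ₀r : IsPGroup r Z₀ := hWr.to_le inf_le_left
  have hord : ∀ v ∈ Z₀, ∃ k, orderOf v = r ^ k := by
    intro v hv
    obtain ⟨k, hk⟩ := hZ₀r ⟨v, hv⟩
    have h1 : v ^ r ^ k = 1 := congrArg Subtype.val hk
    exact (Nat.dvd_prime_pow hrp).mp (orderOf_dvd_of_pow_eq_one h1) |>.imp fun _ h => h.2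
  -- every Sylow `s`-subgroup, `s ≠ r`, centralizes `Z₀`
  have hcent : ∀ (s : ℕ) [Fact s.Prime], s ≠ r → ∀ S : Sylow s ↥G, ∀ y ∈ (S : Subgroup ↥G),
      ∀ v ∈ Z₀, (y : Γ) * v = v * y := by
    intro s hs hsr S y hy v hv
    let Y : Subgroup Γ := (S : Subgroup ↥G).map G.subtype
    have hYG : Y ≤ G := Subgroup.map_subtype_le _
    have hfr : Subgroup.normalizer (Y : Set Γ) ⊔ G = ⊤ := Sylow.normalizer_sup_eq_top S
    obtain ⟨ψ, hψN, hψG⟩ : ∃ ψ, ψ ∈ Subgroup.normalizer (Y : Set Γ) ∧ ψ ∉ G := by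
      by_contra hcon
      push Not at hcon
      have h1 : Subgroup.normalizer (Y : Set Γ) ⊔ G ≤ G := sup_le hcon le_rfl
      rw [hfr] at h1
      exact hGtop (top_le_iff.mp h1)
    have hyY : (y : Γ) ∈ Y := ⟨y, hy, rfl⟩
    have h1 := prod_lemma p G Z₀ hZ₀G hZ₀c hsp Y hYG ψ hψG hψN v hv y hyY
    have hcardY : ∃ k, Nat.card Y = s ^ k := by
      have h2 : IsPGroup s Y := S.2.map G.subtype
      exact IsPGroup.iff_card.mp h2
    obtain ⟨k, hk⟩ := hcardY
    obtain ⟨l, hl⟩ := hord v hv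
    have hcop : (Nat.card Y).Coprime (orderOf v) := by
      rw [hk, hl]
      exact Nat.Coprime.pow _ _ ((Nat.coprime_primes hs.out hrp).mpr hsr)
    obtain ⟨m, hm⟩ := exists_pow_eq_self_of_coprime hcop
    have h2 : (y : Γ) * v * (y : Γ)⁻¹ = v := by
      conv_lhs => rw [← hm]
      rw [← conj_pow, h1, hm]
    calc (y : Γ) * v = ((y : Γ) * v * (y : Γ)⁻¹) * y := by group
      _ = v * y := by rw [h2]
  -- a Sylow `r`-subgroup containing `Z₀`
  have hZ₀r' : IsPGroup r (Z₀.subgroupOf G) := by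
    intro x
    obtain ⟨k, hk⟩ := hZ₀r ⟨x.1.1, x.2⟩
    refine ⟨k, ?_⟩
    apply Subtype.ext
    apply Subtype.ext
    have h := congrArg Subtype.val hk
    exact h
  obtain ⟨R, hR⟩ := IsPGroup.exists_le_sylow hZ₀r'
  -- a central element
  obtain ⟨a, ha1⟩ := (Subgroup.ne_bot_iff_exists_ne_one).mp hZ₀ne
  let H : Subgroup ↥(R : Subgroup ↥G) := (Z₀.subgroupOf G).subgroupOf (R : Subgroup ↥G)
  have hHne : H ≠ ⊥ := by
    intro hbot
    have haG : a.1 ∈ G := hZ₀G a.2
    have haZ : (⟨a.1, haG⟩ : ↥G) ∈ Z₀.subgroupOf G := a.2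
    have haH : (⟨⟨a.1, haG⟩, hR haZ⟩ : ↥(R : Subgroup ↥G)) ∈ H := haZ
    rw [hbot, Subgroup.mem_bot] at haH
    apply ha1
    apply Subtype.ext
    exact congrArg (fun t : ↥(R : Subgroup ↥G) => ((t : ↥G) : Γ)) haH
  obtain ⟨z, hzH, hz1, hzc⟩ := Cfsg.Agent.Helper66.exists_mem_center_of_normal r R.2 H hHne
  let z₀ : Γ := ((z : ↥G) : Γ)
  have hz₀Z : z₀ ∈ Z₀ := hzH
  have hz₀1 : z₀ ≠ 1 := by
    intro h
    apply hz1
    apply Subtype.ext
    apply Subtype.ext
    exact h
  -- `z₀` is central in `G`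
  let C : Subgroup ↥G := (Subgroup.centralizer ({z₀} : Set Γ)).subgroupOf G
  have hCmem : ∀ g : ↥G, g ∈ C ↔ z₀ * (g : Γ) = (g : Γ) * z₀ := by
    intro g
    show (g : Γ) ∈ Subgroup.centralizer ({z₀} : Set Γ) ↔ _
    rw [Subgroup.mem_centralizer_iff]
    constructor
    · intro h
      exact h z₀ rfl
    · intro h w hw
      rw [Set.mem_singleton_iff.mp hw]
      exact h
  have hCtop : C = ⊤ := by
    rw [← Subgroup.index_eq_one, Nat.eq_one_iff_not_exists_prime_dvd]
    intro q hq hqd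
    have : Fact q.Prime := ⟨hq⟩
    by_cases hqr : q = r
    · subst hqr
      have hle : (R : Subgroup ↥G) ≤ C := by
        intro g hg
        rw [hCmem]
        have h1 := Subgroup.mem_center_iff.mp hzc ⟨g, hg⟩
        have h2 := congrArg (fun t : ↥(R : Subgroup ↥G) => ((t : ↥G) : Γ)) h1
        exact h2.symm
      exact R.not_dvd_index (dvd_trans hqd (Subgroup.index_dvd_of_le hle))
    · obtain ⟨S⟩ : Nonempty (Sylow q ↥G) := inferInstance
      have hle : (S : Subgroup ↥G) ≤ C := by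
        intro g hg
        rw [hCmem]
        exact (hcent q hqr S g hg z₀ hz₀Z).symm
      exact S.not_dvd_index (dvd_trans hqd (Subgroup.index_dvd_of_le hle))
  have hzG : ∀ g ∈ G, z₀ * g = g * z₀ := by
    intro g hg
    have h1 : (⟨g, hg⟩ : ↥G) ∈ C := by rw [hCtop]; trivial
    exact (hCmem _).mp h1
  -- the central normal subgroup
  let U : Subgroup Γ := Z₀ ⊓ Subgroup.centralizer (G : Set Γ)
  have hUn : U.Normal := inferInstance
  have hUG : U ≤ G := inf_le_left.trans hZ₀G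
  have hUne : U ≠ ⊥ := by
    intro hbot
    have h1 : z₀ ∈ U := by
      refine ⟨hz₀Z, ?_⟩
      show z₀ ∈ Subgroup.centralizer (G : Set Γ)
      rw [Subgroup.mem_centralizer_iff]
      intro g hg
      exact (hzG g hg).symm
    rw [hbot, Subgroup.mem_bot] at h1
    exact hz₀1 h1
  have hnilQ := hQ U hUG hUne
  let f : ↥G →* ↥(G.map (QuotientGroup.mk' U)) := (QuotientGroup.mk' U).subgroupMap G
  have hker : f.ker ≤ Subgroup.center ↥G := by
    intro x hx
    rw [MonoidHom.mem_ker] at hx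
    have h1 : (QuotientGroup.mk' U) (x : Γ) = 1 := congrArg Subtype.val hx
    have h2 : (x : Γ) ∈ U := by
      rw [← QuotientGroup.ker_mk' U]
      exact h1
    rw [Subgroup.mem_center_iff]
    intro g
    apply Subtype.ext
    exact Subgroup.mem_centralizer_iff.mp h2.2 g.1 g.2
  exact Subgroup.isNilpotent_of_ker_le_center f hker

/-- Hughes–Thompson–Kegel, odd `p`, by induction on the order. -/
theorem ht_aux (p : ℕ) [hp : Fact p.Prime] (hp2 : p ≠ 2) : ∀ (n : ℕ) (Γ : Type u) [Group Γ]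
    [Finite Γ] (G : Subgroup Γ) [G.Normal], Nat.card Γ = n → G.index = p →
    (∀ g : Γ, g ∉ G → g ^ p = 1) → Group.IsNilpotent G := by
  intro n
  induction n using Nat.strong_induction_on with
  | _ n ih =>
  intro Γ _ _ G hGn hcard hidx hsp
  by_contra hnil
  have hpp := hp.out
  have hGtop : G ≠ ⊤ := by
    intro h
    rw [h, Subgroup.index_top] at hidx
    exact hpp.one_lt.ne hidx
  obtain ⟨t, ht⟩ : ∃ t, t ∉ G := by
    by_contra h
    push Not at h
    exact hGtop (eq_top_iff.mpr fun x _ => h x)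
  have ht1 : t ≠ 1 := fun h => ht (h ▸ G.one_mem)
  -- subgroups
  have hS : ∀ H : Subgroup Γ, H ≠ ⊤ → ¬ H ≤ G → Group.IsNilpotent ↥(H ⊓ G) := by
    intro H hH hHG
    have hlt : Nat.card H < n := hcard ▸ card_lt_of_ne_top hH
    have hrel : (G.subgroupOf H).index = p := by
      have h1 : G.relIndex H ∣ G.index := Subgroup.relIndex_dvd_index_of_normal G H
      rw [hidx] at h1
      rcases (Nat.dvd_prime hpp).mp h1 with h2 | h2
      · exact absurd (Subgroup.relIndex_eq_one.mp h2) hHG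
      · exact h2
    have h3 : Group.IsNilpotent ↥(G.subgroupOf H) :=
      ih _ hlt ↥H (G.subgroupOf H) rfl hrel (by
        intro g hg
        apply Subtype.ext
        exact hsp g.1 (fun h => hg (Subgroup.mem_subgroupOf.mpr h)))
    let f : ↥(H ⊓ G) →* ↥(G.subgroupOf H) :=
      { toFun := fun x => ⟨⟨x.1, x.2.1⟩, Subgroup.mem_subgroupOf.mpr x.2.2⟩
        map_one' := rfl
        map_mul' := fun _ _ => rfl }
    exact isNilpotent_of_injective f (fun a b h =>
      Subtype.ext (congrArg (fun z : ↥(G.subgroupOf H) => ((z : H) : Γ)) h))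
  -- quotients
  have hQ : ∀ (U : Subgroup Γ) [U.Normal], U ≤ G → U ≠ ⊥ →
      Group.IsNilpotent ↥(G.map (QuotientGroup.mk' U)) := by
    intro U _ hUG hU
    have hlt : Nat.card (Γ ⧸ U) < n := by
      rw [← hcard, ← Subgroup.index_eq_card, ← U.card_mul_index]
      have h1 : 1 < Nat.card U := U.one_lt_card_iff_ne_bot.mpr hU
      have h2 : 0 < U.index := Nat.pos_of_ne_zero Subgroup.index_ne_zero_of_finite
      nlinarith
    have hnorm : (G.map (QuotientGroup.mk' U)).Normal :=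
      Subgroup.Normal.map inferInstance _ (QuotientGroup.mk'_surjective U)
    refine ih _ hlt (Γ ⧸ U) (G.map (QuotientGroup.mk' U)) rfl ?_ ?_
    · rw [Subgroup.index_map_eq _ (QuotientGroup.mk'_surjective U)
        (by rw [QuotientGroup.ker_mk']; exact hUG), hidx]
    · intro q hq
      obtain ⟨g, rfl⟩ := QuotientGroup.mk'_surjective U q
      have hg : g ∉ G := fun h => hq ⟨g, h, rfl⟩
      rw [← map_pow, hsp g hg, map_one]
  -- a nontrivial normal subgroup of prime power order gives a contradiction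
  have hSOL : ∀ (r : ℕ) [Fact r.Prime] (W : Subgroup Γ) [W.Normal], W ≤ G → W ≠ ⊥ →
      IsPGroup r W → False := fun r _ W _ hWG hW hWr =>
    hnil (sol_case G hsp hGtop hQ r W hWG hW hWr)
  -- if `G` is a `p`-group we are done
  have hGp : ¬ IsPGroup p G := fun h => hnil h.isNilpotent
  -- `p` divides the order of `G`
  have hpG : ¬ (∀ x ∈ G, (orderOf x).Coprime p) := fun h =>
    hnil (nil_of_coprime G G le_rfl hsp t ht h)
  -- a Sylow `p`-subgroup of `Γ` containing `t`
  have htp : IsPGroup p (Subgroup.zpowers t) := by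
    apply IsPGroup.of_card (n := 1)
    rw [Nat.card_zpowers, pow_one]
    exact orderOf_eq_prime (hsp t ht) ht1
  obtain ⟨P, hP⟩ := IsPGroup.exists_le_sylow htp
  have htP : t ∈ (P : Subgroup Γ) := hP (Subgroup.mem_zpowers t)
  have hPne : (P : Subgroup Γ) ≠ ⊥ := by
    intro h
    rw [h, Subgroup.mem_bot] at htP
    exact ht1 htP
  have hPCZ : (P : Subgroup Γ) ≤
      Subgroup.centralizer ((ZZ (P : Subgroup Γ) : Subgroup Γ) : Set Γ) := by
    intro x hx
    rw [Subgroup.mem_centralizer_iff]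
    intro z hz
    exact (Subgroup.mem_centralizer_iff.mp hz.2 x hx).symm
  have hPNJ : (P : Subgroup Γ) ≤
      Subgroup.normalizer ((JJ p (P : Subgroup Γ) : Subgroup Γ) : Set Γ) :=
    Subgroup.le_normalizer.trans (normalizer_le_normalizer_JJ p (P : Subgroup Γ))
  -- a nontrivial normal `p`-subgroup of `Γ` gives a contradiction
  have hV : ∀ V : Subgroup Γ, V.Normal → V ≠ ⊥ → IsPGroup p V → False := by
    intro V hVn hVne hVp
    by_cases hW : V ⊓ G = ⊥
    · -- `G` has exponent `p`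
      apply hGp
      obtain ⟨ψ, hψ1⟩ := (Subgroup.ne_bot_iff_exists_ne_one).mp hVne
      have hψG : (ψ : Γ) ∉ G := by
        intro h
        have h1 : (ψ : Γ) ∈ V ⊓ G := ⟨ψ.2, h⟩
        rw [hW, Subgroup.mem_bot] at h1
        exact hψ1 (Subtype.ext h1)
      intro x
      refine ⟨1, ?_⟩
      rw [pow_one]
      have hcomm : Commute (x : Γ) (ψ : Γ) := by
        have h1 : (x : Γ) * ψ * (x : Γ)⁻¹ * (ψ : Γ)⁻¹ ∈ V ⊓ G := by
          refine ⟨V.mul_mem (hVn.conj_mem _ ψ.2 _) (V.inv_mem ψ.2), ?_⟩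
          have h2 : (ψ : Γ) * (x : Γ)⁻¹ * (ψ : Γ)⁻¹ ∈ G := hGn.conj_mem _ (G.inv_mem x.2) _
          have h3 := G.mul_mem x.2 h2
          have e : (x : Γ) * ψ * (x : Γ)⁻¹ * (ψ : Γ)⁻¹ = (x : Γ) * (ψ * (x : Γ)⁻¹ * (ψ : Γ)⁻¹) := by
            group
          rw [e]
          exact h3
        rw [hW, Subgroup.mem_bot] at h1
        show (x : Γ) * ψ = ψ * x
        calc (x : Γ) * ψ = ((x : Γ) * ψ * (x : Γ)⁻¹ * (ψ : Γ)⁻¹) * (ψ * x) := by group
          _ = ψ * x := by rw [h1, one_mul]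
      have h3 : ((x : Γ) * ψ) ^ p = 1 := hsp _ (fun h => hψG (by
        have := G.mul_mem (G.inv_mem x.2) h
        simpa using this))
      rw [hcomm.mul_pow, hsp _ hψG, mul_one] at h3
      exact Subtype.ext h3
    · have : (V ⊓ G).Normal := inferInstance
      exact hSOL p (V ⊓ G) inf_le_right hW (hVp.to_le inf_le_left)
  -- the two local subgroups are proper
  have hCZ : Subgroup.centralizer ((ZZ (P : Subgroup Γ) : Subgroup Γ) : Set Γ) ≠ ⊤ := by
    intro h
    have hZn : (ZZ (P : Subgroup Γ)).Normal := by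
      constructor
      intro z hz g
      have h1 : g ∈ Subgroup.centralizer ((ZZ (P : Subgroup Γ) : Subgroup Γ) : Set Γ) := by
        rw [h]; trivial
      have h2 := Subgroup.mem_centralizer_iff.mp h1 z hz
      rw [← h2, mul_inv_cancel_right]
      exact hz
    exact hV _ hZn (center_ne_bot P.2 hPne) (P.2.to_le inf_le_left)
  have hNJ : Subgroup.normalizer ((JJ p (P : Subgroup Γ) : Subgroup Γ) : Set Γ) ≠ ⊤ := by
    intro h
    exact hV _ (Subgroup.normalizer_eq_top_iff.mp h) (JJ_ne_bot P.2 hPne)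
      (P.2.to_le (JJ_le p _))
  have hC : PNil p (Subgroup.centralizer ((ZZ (P : Subgroup Γ) : Subgroup Γ) : Set Γ)) :=
    pnil_of_nil G _ hsp (hS _ hCZ (fun h => ht (h (hPCZ htP))))
  have hN : PNil p (Subgroup.normalizer ((JJ p (P : Subgroup Γ) : Subgroup Γ) : Set Γ)) :=
    pnil_of_nil G _ hsp (hS _ hNJ (fun h => ht (h (hPNJ htP))))
  have hTop : PNil p (⊤ : Subgroup Γ) := thompson_npc' hp2 P hC hN
  -- the normal `p`-complement
  let K : Subgroup Γ := pComp p hTop
  have hKn : K.Normal := inferInstance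
  have hKG : K ≤ G := fun x hx => mem_of_coprime_order G hsp ((mem_pComp hTop).mp hx)
  have hKnil : Group.IsNilpotent K :=
    nil_of_coprime G K hKG hsp t ht (fun x hx => (mem_pComp hTop).mp hx)
  by_cases hKbot : K = ⊥
  · apply hGp
    have h1 : IsPGroup p (⊤ : Subgroup Γ) := isPGroup_of_forall_coprime_eq_one (by
      intro x _ hx
      have h2 : x ∈ K := (mem_pComp hTop).mpr hx
      rw [hKbot, Subgroup.mem_bot] at h2
      exact h2)
    exact h1.to_le le_top
  · -- a Sylow subgroup of `K`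
    have hKcard : Nat.card K ≠ 1 := fun h => hKbot (Subgroup.card_eq_one.mp h)
    obtain ⟨r, hr, hrK⟩ := Nat.exists_prime_and_dvd hKcard
    have : Fact r.Prime := ⟨hr⟩
    obtain ⟨Q⟩ : Nonempty (Sylow r ↥K) := inferInstance
    have hQn : (Q : Subgroup ↥K).Normal := inferInstance
    have hQc : (Q : Subgroup ↥K).Characteristic := Sylow.characteristic_of_normal Q hQn
    have hWn : ((Q : Subgroup ↥K).map K.subtype).Normal := inferInstance
    have hQne : (Q : Subgroup ↥K) ≠ ⊥ := Q.ne_bot_of_dvd_card hrK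
    refine hSOL r ((Q : Subgroup ↥K).map K.subtype) ((Subgroup.map_subtype_le _).trans hKG) ?_
      (Q.2.map K.subtype)
    intro h
    apply hQne
    rw [Subgroup.map_eq_bot_iff_of_injective _ (Subgroup.subtype_injective K)] at h
    exact h

/-- The case `p = 2`: inversion is an automorphism. -/
theorem ht_two {Γ : Type*} [Group Γ] (G : Subgroup Γ) (t : Γ) (ht : t ∉ G)
    (hsp : ∀ g : Γ, g ∉ G → g ^ 2 = 1) : Group.IsNilpotent G := by
  have hinv : ∀ x ∈ G, t * x * t⁻¹ = x⁻¹ := by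
    intro x hx
    have h1 : (x * t) ^ 2 = 1 := hsp _ (fun h => ht (by
      have := G.mul_mem (G.inv_mem hx) h
      simpa using this))
    have h2 : t ^ 2 = 1 := hsp t ht
    have h3 : t⁻¹ = t := by
      rw [inv_eq_iff_mul_eq_one, ← sq, h2]
    rw [h3]
    rw [sq] at h1
    calc t * x * t = x⁻¹ * (x * t * (x * t)) := by group
      _ = x⁻¹ := by rw [h1, mul_one]
  have hcomm : ∀ x y : ↥G, x * y = y * x := by
    intro x y
    apply Subtype.ext
    have h1 := hinv _ (G.mul_mem x.2 y.2)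
    have h2 : t * ((x : Γ) * y) * t⁻¹ = (t * x * t⁻¹) * (t * y * t⁻¹) := by group
    rw [h2, hinv _ x.2, hinv _ y.2] at h1
    have h3 : ((x : Γ) * y)⁻¹ = (y : Γ)⁻¹ * (x : Γ)⁻¹ := mul_inv_rev _ _
    rw [h3] at h1
    have h4 : ((x : Γ)⁻¹ * (y : Γ)⁻¹)⁻¹ = ((y : Γ)⁻¹ * (x : Γ)⁻¹)⁻¹ := congrArg _ h1
    simpa using h4.symm
  let cg : CommGroup ↥G := { (inferInstance : Group ↥G) with mul_comm := hcomm }
  exact @CommGroup.isNilpotent ↥G cg

/-- **Hughes–Thompson–Kegel.** If `G` is a normal subgroup of prime index `p` in the finite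
group `Γ` and every element outside `G` has `p`-th power `1`, then `G` is nilpotent. -/
theorem hughes_thompson_kegel {Γ : Type u} [Group Γ] [Finite Γ] (p : ℕ) [hp : Fact p.Prime]
    (G : Subgroup Γ) [G.Normal] (hidx : G.index = p) (hsp : ∀ g : Γ, g ∉ G → g ^ p = 1) :
    Group.IsNilpotent G := by
  by_cases hp2 : p = 2
  · subst hp2
    have hGtop : G ≠ ⊤ := by
      intro h
      rw [h, Subgroup.index_top] at hidx
      omega
    obtain ⟨t, ht⟩ : ∃ t, t ∉ G := by
      by_contra h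
      push Not at h
      exact hGtop (eq_top_iff.mpr fun x _ => h x)
    exact ht_two G t ht hsp
  · exact ht_aux p hp2 _ Γ G rfl hidx hsp

end Cfsg.Agent.Helper65
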