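import Mathlib
import Cfsg.Agent.S4003
import Cfsg.Agent.Helper66.Wielandt

/-!
# Counting tools for subgroups (helper65)

Fibre counting, a weighted orbit lemma, and the conjugation action of a subgroup on the lattice
of subgroups.  Used for counting subgroups of prime power order modulo `p ^ 2`.
-/

set_option autoImplicit false
universe u v

namespace Cfsg.Agent.Helper65.SubCount

/-- If all fibres of `f` have the same cardinality `c`, the domain has `c * card β` elements. -/
theorem card_eq_mul_of_fibers {α β : Type*} [Finite α] [Finite β] (f : α → β) (c : ℕ)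
    (h : ∀ b, Nat.card {a // f a = b} = c) : Nat.card α = c * Nat.card β := by
  classical
  have : Fintype β := Fintype.ofFinite β
  rw [← Nat.card_congr (Equiv.sigmaFiberEquiv f), Nat.card_sigma]
  simp only [h, Finset.sum_const, Finset.card_univ, smul_eq_mul]
  rw [Nat.card_eq_fintype_card, mul_comm]

/-- Splitting a subtype along a second predicate. -/
theorem card_subtype_split {α : Type*} [Finite α] (A B : α → Prop) :
    Nat.card {x // A x} = Nat.card {x // A x ∧ B x} + Nat.card {x // A x ∧ ¬ B x} := by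
  classical
  rw [← Nat.card_sum]
  apply Nat.card_congr
  exact
    { toFun := fun x => if h : B x.1 then Sum.inl ⟨x.1, x.2, h⟩ else Sum.inr ⟨x.1, x.2, h⟩
      invFun := fun y => Sum.elim (fun z => ⟨z.1, z.2.1⟩) (fun z => ⟨z.1, z.2.1⟩) y
      left_inv := by
        intro x
        by_cases h : B x.1 <;> simp [h]
      right_inv := by
        rintro (⟨x, hA, hB⟩ | ⟨x, hA, hB⟩) <;> simp [hB] }

/-- Removing one point. -/
theorem card_subtype_ne {α : Type*} [Finite α] (a : α) :
    Nat.card {b : α // b ≠ a} + 1 = Nat.card α := by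
  classical
  rw [← Nat.card_congr (Equiv.optionSubtypeNe a), Finite.card_option]

/-- A sum of congruences. -/
theorem sum_modEq {ι : Type*} (s : Finset ι) (f g : ι → ℕ) (m : ℕ)
    (h : ∀ i ∈ s, f i ≡ g i [MOD m]) : ∑ i ∈ s, f i ≡ ∑ i ∈ s, g i [MOD m] := by
  rw [← ZMod.natCast_eq_natCast_iff]
  push_cast
  exact Finset.sum_congr rfl (fun i hi => (ZMod.natCast_eq_natCast_iff _ _ _).mpr (h i hi))

/-- **Weighted orbit lemma**: if the fibre sizes of `f : Y → X` are invariant under a group
acting on `X`, and `d` divides (orbit length) * (fibre size) at every point, then `d ∣ #Y`. -/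
theorem dvd_card_of_orbit_fibers {Γ X Y : Type*} [Group Γ] [MulAction Γ X] [Finite X] [Finite Y]
    (f : Y → X) (d : ℕ)
    (hinv : ∀ (g : Γ) (x : X), Nat.card {y // f y = g • x} = Nat.card {y // f y = x})
    (hdvd : ∀ x, d ∣ (MulAction.stabilizer Γ x).index * Nat.card {y // f y = x}) :
    d ∣ Nat.card Y := by
  classical
  apply Cfsg.Agent.S4003.dvd_card_of_fibers
    (fun y => (Quotient.mk (MulAction.orbitRel Γ X) (f y)))
  intro ω
  induction ω using Quotient.inductionOn with
  | h x₀ =>
    have hfib : ∀ y, (Quotient.mk (MulAction.orbitRel Γ X) (f y) =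
        Quotient.mk (MulAction.orbitRel Γ X) x₀) ↔ f y ∈ MulAction.orbit Γ x₀ := by
      intro y
      rw [Quotient.eq]
      exact MulAction.orbitRel_apply
    rw [Nat.card_congr (Equiv.subtypeEquivRight hfib)]
    have hfin : Finite ↥(MulAction.orbit Γ x₀) := Finite.of_injective _ Subtype.val_injective
    have hc : ∀ b : ↥(MulAction.orbit Γ x₀),
        Nat.card {a : {y // f y ∈ MulAction.orbit Γ x₀} //
          (⟨f a.1, a.2⟩ : ↥(MulAction.orbit Γ x₀)) = b} = Nat.card {y // f y = x₀} := by
      rintro ⟨x, hx⟩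
      obtain ⟨g, rfl⟩ := hx
      rw [← hinv g x₀]
      apply Nat.card_congr
      exact
        { toFun := fun a => ⟨a.1.1, congrArg Subtype.val a.2⟩
          invFun := fun y => ⟨⟨y.1, by rw [y.2]; exact ⟨g, rfl⟩⟩, Subtype.ext y.2⟩
          left_inv := fun a => rfl
          right_inv := fun y => rfl }
    rw [card_eq_mul_of_fibers
      (fun a : {y // f y ∈ MulAction.orbit Γ x₀} => (⟨f a.1, a.2⟩ : ↥(MulAction.orbit Γ x₀)))
      _ hc]
    have hidx : Nat.card ↥(MulAction.orbit Γ x₀) = (MulAction.stabilizer Γ x₀).index := by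
      rw [MulAction.index_stabilizer, Nat.card_coe_set_eq]
    rw [hidx, mul_comm]
    exact hdvd x₀

/-! ### Conjugation of subgroups -/

/-- Conjugate of a subgroup. -/
def cj {G : Type*} [Group G] (g : G) (H : Subgroup G) : Subgroup G :=
  H.map (MulAut.conj g).toMonoidHom

theorem mem_cj {G : Type*} [Group G] (g : G) (H : Subgroup G) (x : G) :
    x ∈ cj g H ↔ g⁻¹ * x * g ∈ H := by
  constructor
  · rintro ⟨c, hc, rfl⟩
    have h1 : g⁻¹ * ((MulAut.conj g).toMonoidHom c) * g = c := by
      show g⁻¹ * (g * c * g⁻¹) * g = c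
      group
    rw [h1]; exact hc
  · intro hx
    refine ⟨g⁻¹ * x * g, hx, ?_⟩
    show g * (g⁻¹ * x * g) * g⁻¹ = x
    group

theorem cj_one {G : Type*} [Group G] (H : Subgroup G) : cj 1 H = H := by
  refine Subgroup.ext fun x => ?_
  rw [mem_cj]; simp

theorem cj_mul {G : Type*} [Group G] (g h : G) (H : Subgroup G) :
    cj (g * h) H = cj g (cj h H) := by
  refine Subgroup.ext fun x => ?_
  rw [mem_cj, mem_cj, mem_cj]
  have h1 : (g * h)⁻¹ * x * (g * h) = h⁻¹ * (g⁻¹ * x * g) * h := by group
  rw [h1]

theorem card_cj {G : Type*} [Group G] (g : G) (H : Subgroup G) :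
    Nat.card ↥(cj g H) = Nat.card ↥H :=
  Subgroup.card_map_of_injective (MulEquiv.injective _)

theorem cj_inv_cj {G : Type*} [Group G] (g : G) (H : Subgroup G) : cj g⁻¹ (cj g H) = H := by
  rw [← cj_mul, inv_mul_cancel, cj_one]

theorem cj_cj_inv {G : Type*} [Group G] (g : G) (H : Subgroup G) : cj g (cj g⁻¹ H) = H := by
  rw [← cj_mul, mul_inv_cancel, cj_one]

theorem cj_le_of_mem {G : Type*} [Group G] {g : G} {H K : Subgroup G} (hg : g ∈ K)
    (h : H ≤ K) : cj g H ≤ K := by
  intro x hx
  rw [mem_cj] at hx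
  have e : x = g * (g⁻¹ * x * g) * g⁻¹ := by group
  rw [e]
  exact K.mul_mem (K.mul_mem hg (h hx)) (K.inv_mem hg)

theorem cj_le_iff_of_mem {G : Type*} [Group G] {g : G} {H K : Subgroup G} (hg : g ∈ K) :
    cj g H ≤ K ↔ H ≤ K := by
  constructor
  · intro h
    have := cj_le_of_mem (K.inv_mem hg) h
    rwa [cj_inv_cj] at this
  · exact cj_le_of_mem hg

theorem cj_mono {G : Type*} [Group G] (g : G) {H K : Subgroup G} (h : H ≤ K) :
    cj g H ≤ cj g K := Subgroup.map_mono h

theorem cj_eq_self_of_mem {G : Type*} [Group G] {g : G} {K : Subgroup G} (hg : g ∈ K) :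
    cj g K = K := by
  apply le_antisymm (cj_le_of_mem hg le_rfl)
  have h1 : cj g⁻¹ K ≤ K := cj_le_of_mem (K.inv_mem hg) le_rfl
  have h2 := cj_mono g h1
  rwa [cj_cj_inv] at h2

theorem cj_eq_self_iff {G : Type*} [Group G] (g : G) (H : Subgroup G) :
    cj g H = H ↔ g ∈ Subgroup.normalizer (H : Set G) := by
  rw [Subgroup.mem_normalizer_iff'']
  constructor
  · intro h x
    rw [← mem_cj, h]
  · intro h
    refine Subgroup.ext fun x => ?_
    rw [mem_cj]
    exact (h x).symm

theorem cj_sup {G : Type*} [Group G] (g : G) (H K : Subgroup G) :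
    cj g (H ⊔ K) = cj g H ⊔ cj g K := Subgroup.map_sup H K _

theorem cj_inf {G : Type*} [Group G] (g : G) (H K : Subgroup G) :
    cj g (H ⊓ K) = cj g H ⊓ cj g K := Subgroup.map_inf H K _ (MulEquiv.injective _)

theorem cj_normalizer {G : Type*} [Group G] (g : G) (H : Subgroup G) :
    cj g (Subgroup.normalizer (H : Set G)) = Subgroup.normalizer ((cj g H : Subgroup G) : Set G) :=
  Subgroup.map_equiv_normalizer_eq H (MulAut.conj g)

/-- The conjugation action of a subgroup on the lattice of all subgroups. -/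
@[reducible] def cjAct {G : Type*} [Group G] (K : Subgroup G) : MulAction ↥K (Subgroup G) where
  smul g H := cj (g : G) H
  one_smul H := cj_one H
  mul_smul g h H := cj_mul (g : G) (h : G) H

theorem stabilizer_cjAct {G : Type*} [Group G] (K H : Subgroup G) :
    @MulAction.stabilizer ↥K (Subgroup G) _ (cjAct K) H =
      (Subgroup.normalizer (H : Set G)).subgroupOf K := by
  let _ := cjAct K
  ext g
  rw [MulAction.mem_stabilizer_iff, Subgroup.mem_subgroupOf]
  exact cj_eq_self_iff (g : G) H

/-- The index of the stabilizer in `K` of `H` is `[K : N_K(H)]`. -/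
theorem card_inf_normalizer_mul_index {G : Type*} [Group G] [Finite G] (K H : Subgroup G) :
    Nat.card ↥(K ⊓ Subgroup.normalizer (H : Set G)) *
      (@MulAction.stabilizer ↥K (Subgroup G) _ (cjAct K) H).index = Nat.card ↥K := by
  rw [stabilizer_cjAct]
  have h1 := Subgroup.relIndex_mul_relIndex (H := ⊥)
    (K := Subgroup.normalizer (H : Set G) ⊓ K) (L := K) bot_le inf_le_right
  rw [Subgroup.relIndex_bot_left, Subgroup.relIndex_bot_left, Subgroup.inf_relIndex_right] at h1
  rw [inf_comm]
  exact h1

/-! ### Subgroups inside a subgroup -/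

/-- Subgroups of `G` of order `m` inside `S` correspond to subgroups of `S` of order `m`. -/
theorem card_subgroups_le {G : Type*} [Group G] (S : Subgroup G) (m : ℕ) :
    Nat.card {H : Subgroup G // Nat.card H = m ∧ H ≤ S} =
      Nat.card {K : Subgroup ↥S // Nat.card K = m} := by
  apply Nat.card_congr
  exact
    { toFun := fun H => ⟨H.1.subgroupOf S,
        (Nat.card_congr (Subgroup.subgroupOfEquivOfLe H.2.2).toEquiv).trans H.2.1⟩
      invFun := fun K => ⟨K.1.map S.subtype, by
        rw [Subgroup.card_map_of_injective (Subgroup.subtype_injective S)]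
        exact K.2, Subgroup.map_subtype_le K.1⟩
      left_inv := fun H => Subtype.ext (Subgroup.map_subgroupOf_eq_of_le H.2.2)
      right_inv := fun K => Subtype.ext
        (Subgroup.comap_map_eq_self_of_injective (Subgroup.subtype_injective S) K.1) }

/-- Frobenius inside a subgroup. -/
theorem card_subgroups_le_modEq_one {G : Type*} [Group G] [Finite G] {p : ℕ} [Fact p.Prime]
    (S : Subgroup G) (a : ℕ) (hdvd : p ^ a ∣ Nat.card S) :
    Nat.card {H : Subgroup G // Nat.card H = p ^ a ∧ H ≤ S} ≡ 1 [MOD p] := by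
  rw [card_subgroups_le]
  exact Cfsg.Agent.Helper66.card_subgroups_prime_pow_modEq_one p a Fact.out hdvd

/-- The number of subgroups of order `p ^ a` inside `S` normalized by a `p`-subgroup `Q ≤ S`
is `≡ 1 (mod p)`. -/
theorem card_normalized_modEq_one {G : Type*} [Group G] [Finite G] {p : ℕ} [Fact p.Prime]
    (Q S : Subgroup G) (hQS : Q ≤ S) (hQ : IsPGroup p Q) (a : ℕ) (hdvd : p ^ a ∣ Nat.card S) :
    Nat.card {H : Subgroup G // Nat.card H = p ^ a ∧ H ≤ S ∧
      Q ≤ Subgroup.normalizer (H : Set G)} ≡ 1 [MOD p] := by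
  classical
  letI act : MulAction ↥Q {H : Subgroup G // Nat.card H = p ^ a ∧ H ≤ S} :=
    { smul := fun g H => ⟨cj (g : G) H.1, (card_cj _ _).trans H.2.1,
        cj_le_of_mem (hQS g.2) H.2.2⟩
      one_smul := fun H => Subtype.ext (cj_one H.1)
      mul_smul := fun g h H => Subtype.ext (cj_mul (g : G) (h : G) H.1) }
  have hmod := hQ.card_modEq_card_fixedPoints {H : Subgroup G // Nat.card H = p ^ a ∧ H ≤ S}
  have hfix : Nat.card (MulAction.fixedPoints ↥Q
      {H : Subgroup G // Nat.card H = p ^ a ∧ H ≤ S}) =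
      Nat.card {H : Subgroup G // Nat.card H = p ^ a ∧ H ≤ S ∧
        Q ≤ Subgroup.normalizer (H : Set G)} := by
    apply Nat.card_congr
    exact
      { toFun := fun x => ⟨x.1.1, x.1.2.1, x.1.2.2, fun g hg => by
            have h1 := MulAction.mem_fixedPoints.mp x.2 ⟨g, hg⟩
            have h2 : cj g x.1.1 = x.1.1 := congrArg Subtype.val h1
            exact (cj_eq_self_iff g x.1.1).mp h2⟩
        invFun := fun H => ⟨⟨H.1, H.2.1, H.2.2.1⟩, by
            rw [MulAction.mem_fixedPoints]
            intro g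
            exact Subtype.ext ((cj_eq_self_iff (g : G) H.1).mpr (H.2.2.2 g.2))⟩
        left_inv := fun x => rfl
        right_inv := fun H => rfl }
  rw [hfix] at hmod
  exact hmod.symm.trans (card_subgroups_le_modEq_one S a hdvd)

end Cfsg.Agent.Helper65.SubCount
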