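import Mathlib
import Cfsg.Agent.S4003
import Cfsg.Agent.Helper66.Wielandt
import Cfsg.Agent.Helper65.SubCount

/-!
# Kulakoff's theorem (helper65)

In a non-cyclic `p`-group of order `p ^ n`, `p` odd, the number of subgroups of order `p ^ k`,
`1 ≤ k < n`, is congruent to `1 + p` modulo `p ^ 2` (`card_subgroups_modEq`).

The proof is P. Hall's enumeration principle modulo `p ^ 2`, done by hand with the subgroups of
index `p` and the subgroups of index `p ^ 2` above the intersection `frat` of all subgroups of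
index `p`, and the Kulakoff–Miller count of elements of order `p ^ (n - 1)` (from `S4003`).
-/

set_option autoImplicit false
universe u v

namespace Cfsg.Agent.Helper65.Kulakoff

open Cfsg.Agent.Helper65.SubCount
open scoped commutatorElement

variable {P : Type u} [Group P] [Finite P] {p : ℕ} [Fact p.Prime]

theorem eq_of_le_of_index_eq {H K : Subgroup P} (h : H ≤ K) (hi : H.index = K.index) :
    H = K := by
  have h1 := Subgroup.card_mul_index H
  have h2 := Subgroup.card_mul_index K
  have hK0 : 0 < K.index := Nat.pos_of_ne_zero Subgroup.index_ne_zero_of_finite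
  have hc : Nat.card K = Nat.card H := by
    have : Nat.card K * K.index = Nat.card H * K.index := by rw [h2, ← hi, h1]
    exact Nat.eq_of_mul_eq_mul_right hK0 this
  exact Subgroup.eq_of_le_of_card_ge h (le_of_eq hc)

theorem index_eq_prime_iff_card {n : ℕ} (hcard : Nat.card P = p ^ n) (hn : 1 ≤ n)
    (M : Subgroup P) : M.index = p ↔ Nat.card M = p ^ (n - 1) := by
  have hp : p.Prime := Fact.out
  have h1 := Subgroup.card_mul_index M
  have h2 : p ^ n = p ^ (n - 1) * p := by rw [← pow_succ]; congr 1; omega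
  rw [hcard, h2] at h1
  constructor
  · intro h; rw [h] at h1; exact Nat.eq_of_mul_eq_mul_right hp.pos h1
  · intro h; rw [h] at h1; exact Nat.eq_of_mul_eq_mul_left (pow_pos hp.pos _) h1

theorem normal_of_index_eq_prime (hP : IsPGroup p P) (M : Subgroup P) (hM : M.index = p) :
    M.Normal := by
  have hp : p.Prime := Fact.out
  obtain ⟨n, hn⟩ := IsPGroup.iff_card.mp hP
  have hn0 : n ≠ 0 := by
    rintro rfl
    have h1 := Subgroup.card_mul_index M
    rw [hn, pow_zero, hM] at h1
    have : p ∣ 1 := Dvd.intro_left _ h1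
    exact hp.one_lt.ne' (Nat.dvd_one.mp this)
  apply Subgroup.normal_of_index_eq_minFac_card
  rw [hM, hn, Nat.pow_minFac hn0, hp.minFac_eq]

/-- The intersection of all subgroups of index `p`. -/
def frat (P : Type u) [Group P] (p : ℕ) : Subgroup P :=
  ⨅ M : {M : Subgroup P // M.index = p}, (M : Subgroup P)

theorem frat_le {M : Subgroup P} (hM : M.index = p) : frat P p ≤ M :=
  iInf_le (fun M : {M : Subgroup P // M.index = p} => (M : Subgroup P)) ⟨M, hM⟩

theorem pow_mem_frat (hP : IsPGroup p P) (x : P) : x ^ p ∈ frat P p := by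
  rw [frat, Subgroup.mem_iInf]
  rintro ⟨M, hM⟩
  have := normal_of_index_eq_prime hP M hM
  have := M.pow_index_mem x
  rwa [hM] at this

theorem commutator_le_frat (hP : IsPGroup p P) : commutator P ≤ frat P p := by
  rw [frat]
  apply le_iInf
  rintro ⟨M, hM⟩
  have := normal_of_index_eq_prime hP M hM
  have hcard : Nat.card (P ⧸ M) = p := by rw [← Subgroup.index_eq_card, hM]
  have : IsCyclic (P ⧸ M) := isCyclic_of_prime_card hcard
  exact Subgroup.Normal.quotient_commutative_iff_commutator_le.mp inferInstance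

theorem normal_of_frat_le (hP : IsPGroup p P) {D : Subgroup P} (hD : frat P p ≤ D) :
    D.Normal := by
  constructor
  intro d hd g
  have h0 : ⁅g, d⁆ ∈ commutator P := by
    rw [commutator_def]
    exact Subgroup.commutator_mem_commutator (Subgroup.mem_top g) (Subgroup.mem_top d)
  have h1 : ⁅g, d⁆ ∈ D := hD (commutator_le_frat hP h0)
  have e : g * d * g⁻¹ = ⁅g, d⁆ * d := by rw [commutatorElement_def]; group
  rw [e]
  exact D.mul_mem h1 hd

theorem index_inf_of_ne (hP : IsPGroup p P) {M₁ M₂ : Subgroup P} (h1 : M₁.index = p)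
    (h2 : M₂.index = p) (hne : M₁ ≠ M₂) : (M₁ ⊓ M₂).index = p ^ 2 := by
  have hp : p.Prime := Fact.out
  have := normal_of_index_eq_prime hP M₁ h1
  have hsup : M₂ ⊔ M₁ = ⊤ := by
    by_contra hcon
    have hd1 : (M₂ ⊔ M₁).index ∣ M₁.index := Subgroup.index_dvd_of_le le_sup_right
    rw [h1] at hd1
    rcases (Nat.dvd_prime hp).mp hd1 with h | h
    · exact hcon (Subgroup.index_eq_one.mp h)
    · have e1 : M₁ = M₂ ⊔ M₁ := eq_of_le_of_index_eq le_sup_right (h1.trans h.symm)
      have e2 : M₂ = M₂ ⊔ M₁ := eq_of_le_of_index_eq le_sup_left (h2.trans h.symm)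
      exact hne (e1.trans e2.symm)
  have h3 : M₁.relIndex M₂ = p := by
    rw [← Subgroup.relIndex_sup_right, hsup, Subgroup.relIndex_top_right, h1]
  have h4 := Subgroup.relIndex_mul_index (inf_le_right : M₁ ⊓ M₂ ≤ M₂)
  rw [Subgroup.inf_relIndex_right, h3, h2] at h4
  rw [← h4, pow_two]

theorem exists_index_eq_ge (hP : IsPGroup p P) (H : Subgroup P) (hH : H ≠ ⊤) :
    ∃ M : Subgroup P, M.index = p ∧ H ≤ M := by
  have hp : p.Prime := Fact.out
  obtain ⟨n, hn⟩ := IsPGroup.iff_card.mp hP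
  obtain ⟨m, hm⟩ := IsPGroup.iff_card.mp (hP.to_subgroup H)
  have hmn : m < n := by
    have hdvd : p ^ m ∣ p ^ n := by rw [← hm, ← hn]; exact Subgroup.card_subgroup_dvd_card H
    have hle : m ≤ n := (Nat.pow_dvd_pow_iff_le_right hp.one_lt).mp hdvd
    rcases lt_or_eq_of_le hle with h | h
    · exact h
    · exfalso
      apply hH
      apply Subgroup.eq_top_of_card_eq
      rw [hm, hn, h]
  obtain ⟨K, hK, hHK⟩ := Sylow.exists_subgroup_card_pow_prime_le p
    (show p ^ (n - 1) ∣ Nat.card P by rw [hn]; exact pow_dvd_pow p (Nat.sub_le n 1)) H hm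
    (by omega)
  exact ⟨K, (index_eq_prime_iff_card hn (by omega) K).mpr hK, hHK⟩

/-- A group of order `p ^ 2` and exponent `p` has exactly `p + 1` subgroups of index `p`. -/
theorem card_index_eq_of_card_sq {Q : Type*} [Group Q] [Finite Q] (hQ : Nat.card Q = p ^ 2)
    (hexp : ∀ x : Q, x ^ p = 1) : Nat.card {K : Subgroup Q // K.index = p} = p + 1 := by
  have hp : p.Prime := Fact.out
  have hiff : ∀ K : Subgroup Q, K.index = p ↔ Nat.card K = p := by
    intro K
    have h1 := Subgroup.card_mul_index K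
    rw [hQ, pow_two] at h1
    constructor
    · intro h; rw [h] at h1; exact Nat.eq_of_mul_eq_mul_right hp.pos h1
    · intro h; rw [h] at h1; exact Nat.eq_of_mul_eq_mul_left hp.pos h1
  rw [Nat.card_congr (Equiv.subtypeEquivRight hiff)]
  have hord : ∀ x : {x : Q // x ≠ 1}, Nat.card (Subgroup.zpowers x.1) = p := by
    intro x
    rw [Nat.card_zpowers]
    exact orderOf_eq_prime (hexp x.1) x.2
  have hfib : ∀ K : {K : Subgroup Q // Nat.card K = p},
      Nat.card {x : {x : Q // x ≠ 1} //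
        (⟨Subgroup.zpowers x.1, hord x⟩ : {K : Subgroup Q // Nat.card K = p}) = K} = p - 1 := by
    rintro ⟨K, hK⟩
    have h1 : Nat.card {y : ↥K // y ≠ 1} + 1 = Nat.card ↥K := card_subtype_ne (1 : ↥K)
    have h2 : Nat.card {y : ↥K // y ≠ 1} = p - 1 := by omega
    rw [← h2]
    apply Nat.card_congr
    exact
      { toFun := fun x => ⟨⟨x.1.1, by
            have h : Subgroup.zpowers x.1.1 = K := congrArg Subtype.val x.2
            exact h.le (Subgroup.mem_zpowers x.1.1)⟩, fun h => x.1.2 (congrArg Subtype.val h)⟩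
        invFun := fun y => ⟨⟨y.1.1, fun h => y.2 (Subtype.ext h)⟩, Subtype.ext (by
            show Subgroup.zpowers y.1.1 = K
            apply Subgroup.eq_of_le_of_card_ge
            · rw [Subgroup.zpowers_le]; exact y.1.2
            · rw [hK, Nat.card_zpowers,
                orderOf_eq_prime (hexp _) (fun h => y.2 (Subtype.ext h))])⟩
        left_inv := fun x => rfl
        right_inv := fun y => rfl }
  have h3 := card_eq_mul_of_fibers (fun x : {x : Q // x ≠ 1} =>
    (⟨Subgroup.zpowers x.1, hord x⟩ : {K : Subgroup Q // Nat.card K = p})) (p - 1) hfib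
  have h4 : Nat.card {x : Q // x ≠ 1} + 1 = Nat.card Q := card_subtype_ne (1 : Q)
  rw [hQ] at h4
  have hp2 : 2 ≤ p := hp.two_le
  have h6 : (p - 1) * (p + 1) + 1 = p ^ 2 := by
    obtain ⟨q, hq⟩ : ∃ q, p = q + 1 := ⟨p - 1, by omega⟩
    rw [hq]
    simp only [Nat.add_sub_cancel]
    ring
  have h5 : (p - 1) * Nat.card {K : Subgroup Q // Nat.card K = p} = (p - 1) * (p + 1) := by
    omega
  exact Nat.eq_of_mul_eq_mul_left (by omega) h5

/-- Correspondence theorem, counting subgroups of given index above a normal subgroup. -/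
theorem card_ge_index_eq (N : Subgroup P) [N.Normal] (m : ℕ) :
    Nat.card {M : Subgroup P // M.index = m ∧ N ≤ M} =
      Nat.card {K : Subgroup (P ⧸ N) // K.index = m} := by
  symm
  apply Nat.card_congr
  exact
    { toFun := fun K => ⟨Subgroup.comap (QuotientGroup.mk' N) K.1, by
          rw [Subgroup.index_comap_of_surjective _ (QuotientGroup.mk'_surjective N)]
          exact K.2, QuotientGroup.le_comap_mk' N K.1⟩
      invFun := fun M => ⟨Subgroup.map (QuotientGroup.mk' N) M.1, by
          have h := Subgroup.index_comap_of_surjective (Subgroup.map (QuotientGroup.mk' N) M.1)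
            (QuotientGroup.mk'_surjective N)
          rw [← h, Subgroup.comap_map_eq, QuotientGroup.ker_mk', sup_eq_left.mpr M.2.2]
          exact M.2.1⟩
      left_inv := fun K => Subtype.ext
        (Subgroup.map_comap_eq_self_of_surjective (QuotientGroup.mk'_surjective N) K.1)
      right_inv := fun M => Subtype.ext (by
          show Subgroup.comap (QuotientGroup.mk' N) (Subgroup.map (QuotientGroup.mk' N) M.1) = M.1
          rw [Subgroup.comap_map_eq, QuotientGroup.ker_mk', sup_eq_left.mpr M.2.2]) }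

theorem card_index_eq_ge_of_frat_le (hP : IsPGroup p P) (D : Subgroup P) (hD : frat P p ≤ D)
    (hDi : D.index = p ^ 2) : Nat.card {M : Subgroup P // M.index = p ∧ D ≤ M} = p + 1 := by
  have := normal_of_frat_le hP hD
  rw [card_ge_index_eq D p]
  apply card_index_eq_of_card_sq
  · rw [← Subgroup.index_eq_card, hDi]
  · intro x
    induction x using QuotientGroup.induction_on with
    | H x =>
      rw [← QuotientGroup.mk_pow]
      exact (QuotientGroup.eq_one_iff _).mpr (hD (pow_mem_frat hP x))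

theorem card_index_sq_frat_modEq (hP : IsPGroup p P) (h2 : p ^ 2 ∣ (frat P p).index) :
    Nat.card {D : Subgroup P // D.index = p ^ 2 ∧ frat P p ≤ D} ≡ 1 [MOD p] := by
  have hp : p.Prime := Fact.out
  have : (frat P p).Normal := normal_of_frat_le hP le_rfl
  rw [card_ge_index_eq (frat P p) (p ^ 2)]
  obtain ⟨e, he⟩ := IsPGroup.iff_card.mp (hP.to_quotient (frat P p))
  have he2 : 2 ≤ e := by
    rw [Subgroup.index_eq_card, he] at h2
    exact (Nat.pow_dvd_pow_iff_le_right hp.one_lt).mp h2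
  have hiff : ∀ K : Subgroup (P ⧸ frat P p), K.index = p ^ 2 ↔ Nat.card K = p ^ (e - 2) := by
    intro K
    have h1 := Subgroup.card_mul_index K
    rw [he] at h1
    have h3 : p ^ e = p ^ (e - 2) * p ^ 2 := by rw [← pow_add]; congr 1; omega
    rw [h3] at h1
    constructor
    · intro h; rw [h] at h1; exact Nat.eq_of_mul_eq_mul_right (pow_pos hp.pos 2) h1
    · intro h; rw [h] at h1; exact Nat.eq_of_mul_eq_mul_left (pow_pos hp.pos _) h1
  rw [Nat.card_congr (Equiv.subtypeEquivRight hiff)]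
  apply Cfsg.Agent.Helper66.card_subgroups_prime_pow_modEq_one p (e - 2) hp
  rw [he]
  exact pow_dvd_pow p (Nat.sub_le e 2)

/-- **Enumeration principle modulo `p ^ 2`**: for a proper subgroup `H`, the number of subgroups
of index `p` above `H` is `≡ 1 + p * #{D ≥ H, D ≥ frat, [P : D] = p ^ 2}`. -/
theorem card_index_eq_ge_modEq (hP : IsPGroup p P) (H : Subgroup P) (hH : H ≠ ⊤) :
    Nat.card {M : Subgroup P // M.index = p ∧ H ≤ M} ≡
      1 + p * Nat.card {D : Subgroup P // (D.index = p ^ 2 ∧ frat P p ≤ D) ∧ H ≤ D}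
        [MOD p ^ 2] := by
  classical
  have hp : p.Prime := Fact.out
  have hii : ∀ M₀ : Subgroup P, M₀.index = p → H ≤ M₀ →
      p * Nat.card {D : Subgroup P // ((D.index = p ^ 2 ∧ frat P p ≤ D) ∧ H ≤ D) ∧ D ≤ M₀} + 1 =
        Nat.card {M : Subgroup P // M.index = p ∧ H ≤ M} := by
    intro M₀ hM₀ hHM₀
    have hmap : ∀ M : {M : {M : Subgroup P // M.index = p ∧ H ≤ M} // M ≠ ⟨M₀, hM₀, hHM₀⟩},
        (((M.1.1 ⊓ M₀).index = p ^ 2 ∧ frat P p ≤ M.1.1 ⊓ M₀) ∧ H ≤ M.1.1 ⊓ M₀) ∧
          M.1.1 ⊓ M₀ ≤ M₀ := by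
      intro M
      exact ⟨⟨⟨index_inf_of_ne hP M.1.2.1 hM₀ (fun h => M.2 (Subtype.ext h)),
        le_inf (frat_le M.1.2.1) (frat_le hM₀)⟩, le_inf M.1.2.2 hHM₀⟩, inf_le_right⟩
    have hkey : Nat.card {M : {M : Subgroup P // M.index = p ∧ H ≤ M} // M ≠ ⟨M₀, hM₀, hHM₀⟩} =
        p * Nat.card {D : Subgroup P //
          ((D.index = p ^ 2 ∧ frat P p ≤ D) ∧ H ≤ D) ∧ D ≤ M₀} := by
      apply card_eq_mul_of_fibers
        (fun M : {M : {M : Subgroup P // M.index = p ∧ H ≤ M} // M ≠ ⟨M₀, hM₀, hHM₀⟩} =>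
          (⟨M.1.1 ⊓ M₀, hmap M⟩ :
            {D : Subgroup P // ((D.index = p ^ 2 ∧ frat P p ≤ D) ∧ H ≤ D) ∧ D ≤ M₀}))
      rintro ⟨D, ⟨⟨hDi, hDf⟩, hDH⟩, hDM₀⟩
      have h1 := card_subtype_ne (⟨M₀, hM₀, hDM₀⟩ : {M : Subgroup P // M.index = p ∧ D ≤ M})
      rw [card_index_eq_ge_of_frat_le hP D hDf hDi] at h1
      have h2 : Nat.card {M : {M : Subgroup P // M.index = p ∧ D ≤ M} //
          M ≠ ⟨M₀, hM₀, hDM₀⟩} = p := by omega
      refine (Nat.card_congr ?_).trans h2
      exact
        { toFun := fun M => ⟨⟨M.1.1.1, M.1.1.2.1, by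
              have h : M.1.1.1 ⊓ M₀ = D := congrArg Subtype.val M.2
              exact h.ge.trans inf_le_left⟩,
              fun h => M.1.2 (Subtype.ext (show M.1.1.1 = M₀ from congrArg Subtype.val h))⟩
          invFun := fun M => ⟨⟨⟨M.1.1, M.1.2.1, hDH.trans M.1.2.2⟩,
              fun h => M.2 (Subtype.ext (show M.1.1 = M₀ from congrArg Subtype.val h))⟩,
              Subtype.ext (by
                show M.1.1 ⊓ M₀ = D
                symm
                apply eq_of_le_of_index_eq (le_inf M.1.2.2 hDM₀)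
                rw [hDi, index_inf_of_ne hP M.1.2.1 hM₀ (fun h => M.2 (Subtype.ext h))])⟩
          left_inv := fun M => rfl
          right_inv := fun M => rfl }
    rw [← card_subtype_ne (⟨M₀, hM₀, hHM₀⟩ : {M : Subgroup P // M.index = p ∧ H ≤ M}), hkey]
  obtain ⟨M₀, hM₀, hHM₀⟩ := exists_index_eq_ge hP H hH
  -- pairs `(D, M)` with `D ≤ M`
  have hZ1 : Nat.card {x : Subgroup P × Subgroup P //
      ((x.1.index = p ^ 2 ∧ frat P p ≤ x.1) ∧ H ≤ x.1) ∧ (x.2.index = p ∧ x.1 ≤ x.2)} =
      (p + 1) * Nat.card {D : Subgroup P // (D.index = p ^ 2 ∧ frat P p ≤ D) ∧ H ≤ D} := by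
    apply card_eq_mul_of_fibers (fun x => (⟨x.1.1, x.2.1⟩ :
      {D : Subgroup P // (D.index = p ^ 2 ∧ frat P p ≤ D) ∧ H ≤ D}))
    rintro ⟨D, ⟨hDi, hDf⟩, hDH⟩
    rw [← card_index_eq_ge_of_frat_le hP D hDf hDi]
    apply Nat.card_congr
    exact
      { toFun := fun x => ⟨x.1.1.2, x.1.2.2.1, by
            have h : x.1.1.1 = D := congrArg Subtype.val x.2
            exact h.ge.trans x.1.2.2.2⟩
        invFun := fun M => ⟨⟨(D, M.1), ⟨⟨hDi, hDf⟩, hDH⟩, M.2.1, M.2.2⟩, rfl⟩
        left_inv := by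
          rintro ⟨⟨⟨D', M⟩, h1, h2⟩, h3⟩
          have h : D' = D := congrArg Subtype.val h3
          subst h
          rfl
        right_inv := fun M => rfl }
  have hZ2 : Nat.card {x : Subgroup P × Subgroup P //
      ((x.1.index = p ^ 2 ∧ frat P p ≤ x.1) ∧ H ≤ x.1) ∧ (x.2.index = p ∧ x.1 ≤ x.2)} =
      Nat.card {D : Subgroup P // ((D.index = p ^ 2 ∧ frat P p ≤ D) ∧ H ≤ D) ∧ D ≤ M₀} *
        Nat.card {M : Subgroup P // M.index = p ∧ H ≤ M} := by
    apply card_eq_mul_of_fibers (fun x => (⟨x.1.2, x.2.2.1, x.2.1.2.trans x.2.2.2⟩ :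
      {M : Subgroup P // M.index = p ∧ H ≤ M}))
    rintro ⟨M, hMi, hHM⟩
    have h1 := hii M hMi hHM
    have h2 := hii M₀ hM₀ hHM₀
    have h3 : Nat.card {D : Subgroup P //
        ((D.index = p ^ 2 ∧ frat P p ≤ D) ∧ H ≤ D) ∧ D ≤ M₀} =
        Nat.card {D : Subgroup P // ((D.index = p ^ 2 ∧ frat P p ≤ D) ∧ H ≤ D) ∧ D ≤ M} := by
      have h4 : p * Nat.card {D : Subgroup P //
          ((D.index = p ^ 2 ∧ frat P p ≤ D) ∧ H ≤ D) ∧ D ≤ M₀} =
          p * Nat.card {D : Subgroup P //
            ((D.index = p ^ 2 ∧ frat P p ≤ D) ∧ H ≤ D) ∧ D ≤ M} := by omega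
      exact Nat.eq_of_mul_eq_mul_left hp.pos h4
    rw [h3]
    apply Nat.card_congr
    exact
      { toFun := fun x => ⟨x.1.1.1, x.1.2.1, by
            have h : x.1.1.2 = M := congrArg Subtype.val x.2
            exact x.1.2.2.2.trans h.le⟩
        invFun := fun D => ⟨⟨(D.1, M), D.2.1, hMi, D.2.2⟩, rfl⟩
        left_inv := by
          rintro ⟨⟨⟨D, M'⟩, h1, h2⟩, h3⟩
          have h : M' = M := congrArg Subtype.val h3
          subst h
          rfl
        right_inv := fun D => rfl }
  have hμ := hii M₀ hM₀ hHM₀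
  obtain ⟨t, ht⟩ : ∃ t, t = Nat.card {D : Subgroup P //
      ((D.index = p ^ 2 ∧ frat P p ≤ D) ∧ H ≤ D) ∧ D ≤ M₀} := ⟨_, rfl⟩
  obtain ⟨δ, hδ⟩ : ∃ δ, δ = Nat.card {D : Subgroup P //
      (D.index = p ^ 2 ∧ frat P p ≤ D) ∧ H ≤ D} := ⟨_, rfl⟩
  obtain ⟨μ, hμ'⟩ : ∃ μ, μ = Nat.card {M : Subgroup P // M.index = p ∧ H ≤ M} := ⟨_, rfl⟩
  rw [← ht, ← hμ'] at hμ hZ2
  rw [← hδ] at hZ1
  rw [← hδ, ← hμ']
  have e : δ + p * δ = t + p * (t * t) := by
    have h1 : (p + 1) * δ = t * μ := hZ1.symm.trans hZ2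
    rw [← hμ] at h1
    nlinarith [h1]
  have hmod : t ≡ δ [MOD p] := by
    unfold Nat.ModEq
    rw [← Nat.add_mul_mod_self_left t p (t * t), ← e, Nat.add_mul_mod_self_left]
  have h7 : p * t ≡ p * δ [MOD p * p] := Nat.ModEq.mul_left' p hmod
  rw [← pow_two] at h7
  rw [← hμ, add_comm]
  exact h7.add_left 1

/-- In a non-cyclic `p`-group of order `p ^ n`, `n ≥ 3`, `p` odd, the number of cyclic subgroups
of index `p` is divisible by `p`. -/
theorem card_cyclic_index_eq_dvd (hp2 : p ≠ 2) (n : ℕ) (hn : 3 ≤ n) (hcard : Nat.card P = p ^ n)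
    (hnc : ¬ IsCyclic P) : p ∣ Nat.card {M : Subgroup P // M.index = p ∧ IsCyclic ↥M} := by
  have hp : p.Prime := Fact.out
  have hP : IsPGroup p P := IsPGroup.of_card hcard
  have hE := Cfsg.Agent.S4003.card_orderOf_eq_prime_pow_dvd hp2 hP hnc (n - 1) (by omega)
  have hidx : ∀ M : Subgroup P, M.index = p ↔ Nat.card M = p ^ (n - 1) :=
    index_eq_prime_iff_card hcard (by omega)
  have hmap : ∀ x : {x : P // orderOf x = p ^ (n - 1)},
      (Subgroup.zpowers x.1).index = p ∧ IsCyclic ↥(Subgroup.zpowers x.1) := by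
    intro x
    exact ⟨(hidx _).mpr (by rw [Nat.card_zpowers]; exact x.2), inferInstance⟩
  have hfib : ∀ M : {M : Subgroup P // M.index = p ∧ IsCyclic ↥M},
      Nat.card {x : {x : P // orderOf x = p ^ (n - 1)} //
        (⟨Subgroup.zpowers x.1, hmap x⟩ : {M : Subgroup P // M.index = p ∧ IsCyclic ↥M}) = M} =
        Nat.totient (p ^ (n - 1)) := by
    rintro ⟨M, hMi, hMc⟩
    have := hMc
    have hMcard : Nat.card M = p ^ (n - 1) := (hidx M).mp hMi
    have h1 : Nat.card {y : ↥M // orderOf y = p ^ (n - 1)} = Nat.totient (p ^ (n - 1)) := by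
      classical
      have : Fintype ↥M := Fintype.ofFinite _
      rw [Nat.card_eq_fintype_card, Fintype.card_subtype]
      exact IsCyclic.card_orderOf_eq_totient (by rw [← Nat.card_eq_fintype_card, hMcard])
    rw [← h1]
    apply Nat.card_congr
    exact
      { toFun := fun x => ⟨⟨x.1.1, by
            have h : Subgroup.zpowers x.1.1 = M := congrArg Subtype.val x.2
            exact h.le (Subgroup.mem_zpowers x.1.1)⟩, by
            rw [Subgroup.orderOf_mk]; exact x.1.2⟩
        invFun := fun y => ⟨⟨y.1.1, by rw [Subgroup.orderOf_coe]; exact y.2⟩, Subtype.ext (by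
            show Subgroup.zpowers y.1.1 = M
            apply Subgroup.eq_of_le_of_card_ge
            · rw [Subgroup.zpowers_le]; exact y.1.2
            · rw [hMcard, Nat.card_zpowers, Subgroup.orderOf_coe, y.2])⟩
        left_inv := fun x => rfl
        right_inv := fun y => rfl }
  have h3 := card_eq_mul_of_fibers (fun x : {x : P // orderOf x = p ^ (n - 1)} =>
    (⟨Subgroup.zpowers x.1, hmap x⟩ : {M : Subgroup P // M.index = p ∧ IsCyclic ↥M})) _ hfib
  rw [h3, Nat.totient_prime_pow hp (by omega : 0 < n - 1)] at hE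
  have h4 : p ^ (n - 1) = p ^ (n - 1 - 1) * p := by rw [← pow_succ]; congr 1; omega
  rw [h4, mul_assoc] at hE
  have h5 := Nat.dvd_of_mul_dvd_mul_left (pow_pos hp.pos _) hE
  rcases (Nat.Prime.dvd_mul hp).mp h5 with h | h
  · exfalso
    have := hp.two_le
    exact Nat.not_dvd_of_pos_of_lt (by omega) (by omega) h
  · exact h

theorem cast_mul_eq_of_modEq {x y : ℕ} (h : x ≡ y [MOD p]) :
    ((p : ZMod (p ^ 2)) * (x : ZMod (p ^ 2)) = (p : ZMod (p ^ 2)) * (y : ZMod (p ^ 2))) := by
  have h1 : p * x ≡ p * y [MOD p * p] := Nat.ModEq.mul_left' p h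
  rw [← pow_two] at h1
  have h2 := (ZMod.natCast_eq_natCast_iff _ _ _).mpr h1
  push_cast at h2
  exact h2

/-- Double counting. -/
theorem sum_card_swap {α β : Type*} [Fintype α] [Fintype β] (R : α → β → Prop) :
    ∑ a, Nat.card {b // R a b} = ∑ b, Nat.card {a // R a b} := by
  rw [← Nat.card_sigma, ← Nat.card_sigma]
  apply Nat.card_congr
  exact
    { toFun := fun x => ⟨x.2.1, x.1, x.2.2⟩
      invFun := fun x => ⟨x.2.1, x.1, x.2.2⟩
      left_inv := fun x => rfl
      right_inv := fun x => rfl }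

/-- **Kulakoff's theorem**: in a non-cyclic group of order `p ^ n`, `p` odd, the number of
subgroups of order `p ^ k`, `1 ≤ k < n`, is `≡ 1 + p (mod p ^ 2)`. -/
theorem card_subgroups_modEq (hp2 : p ≠ 2) : ∀ (n : ℕ) (P : Type u) [Group P] [Finite P],
    Nat.card P = p ^ n → ¬ IsCyclic P → ∀ k : ℕ, 1 ≤ k → k < n →
    Nat.card {H : Subgroup P // Nat.card H = p ^ k} ≡ 1 + p [MOD p ^ 2] := by
  have hp : p.Prime := Fact.out
  intro n
  induction n using Nat.strong_induction_on with
  | _ n ih =>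
  intro P _ _ hcard hnc k hk1 hkn
  classical
  have hP : IsPGroup p P := IsPGroup.of_card hcard
  have hidx : ∀ M : Subgroup P, M.index = p ↔ Nat.card M = p ^ (n - 1) :=
    index_eq_prime_iff_card hcard (by omega)
  have hbot : (⊥ : Subgroup P) ≠ ⊤ := by
    intro h
    have h1 : Nat.card (⊥ : Subgroup P) = Nat.card (⊤ : Subgroup P) := by rw [h]
    rw [Subgroup.card_bot, Subgroup.card_top, hcard] at h1
    have : 1 < p ^ n := Nat.one_lt_pow (by omega) hp.one_lt
    omega
  have hM := card_index_eq_ge_modEq hP (⊥ : Subgroup P) hbot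
  have e1 : Nat.card {M : Subgroup P // M.index = p ∧ ⊥ ≤ M} =
      Nat.card {M : Subgroup P // M.index = p} :=
    Nat.card_congr (Equiv.subtypeEquivRight (fun M => by simp))
  have e2 : Nat.card {D : Subgroup P // (D.index = p ^ 2 ∧ frat P p ≤ D) ∧ ⊥ ≤ D} =
      Nat.card {D : Subgroup P // D.index = p ^ 2 ∧ frat P p ≤ D} :=
    Nat.card_congr (Equiv.subtypeEquivRight (fun D => by simp))
  rw [e1, e2] at hM
  -- two distinct subgroups of index `p`
  obtain ⟨M₁, hM₁, -⟩ := exists_index_eq_ge hP (⊥ : Subgroup P) hbot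
  have hM₁top : M₁ ≠ ⊤ := by
    intro h
    rw [h, Subgroup.index_top] at hM₁
    exact hp.one_lt.ne hM₁
  obtain ⟨x, hx⟩ : ∃ x, x ∉ M₁ := by
    by_contra hcon
    push Not at hcon
    exact hM₁top (Subgroup.eq_top_iff' M₁ |>.mpr hcon)
  have hzx : Subgroup.zpowers x ≠ ⊤ := by
    intro h
    exact hnc (isCyclic_iff_exists_zpowers_eq_top.mpr ⟨x, h⟩)
  obtain ⟨M₂, hM₂, hxM₂⟩ := exists_index_eq_ge hP (Subgroup.zpowers x) hzx
  have hne : M₁ ≠ M₂ := by
    intro h
    exact hx (h ▸ hxM₂ (Subgroup.mem_zpowers x))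
  have hfr : p ^ 2 ∣ (frat P p).index := by
    rw [← index_inf_of_ne hP hM₁ hM₂ hne]
    exact Subgroup.index_dvd_of_le (le_inf (frat_le hM₁) (frat_le hM₂))
  have hD := card_index_sq_frat_modEq hP hfr
  -- everything in `ZMod (p ^ 2)`
  have h3 : ((Nat.card {M : Subgroup P // M.index = p} : ℕ) : ZMod (p ^ 2)) =
      1 + (p : ZMod (p ^ 2)) *
        ((Nat.card {D : Subgroup P // D.index = p ^ 2 ∧ frat P p ≤ D} : ℕ) : ZMod (p ^ 2)) := by
    have := (ZMod.natCast_eq_natCast_iff _ _ _).mpr hM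
    push_cast at this
    exact this
  have hD' := cast_mul_eq_of_modEq hD
  rw [← ZMod.natCast_eq_natCast_iff]
  rcases Nat.lt_or_ge (k + 1) n with hk2 | hk2
  swap
  · -- `k = n - 1`
    have hkn' : k = n - 1 := by omega
    have e3 : Nat.card {H : Subgroup P // Nat.card H = p ^ k} =
        Nat.card {M : Subgroup P // M.index = p} :=
      Nat.card_congr (Equiv.subtypeEquivRight (fun M => by rw [hkn']; exact (hidx M).symm))
    rw [e3, h3, hD']
    push_cast
    ring
  · -- `k ≤ n - 2`
    have : Fintype {H : Subgroup P // Nat.card H = p ^ k} := Fintype.ofFinite _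
    have : Fintype {M : Subgroup P // M.index = p} := Fintype.ofFinite _
    have : Fintype {D : Subgroup P // D.index = p ^ 2 ∧ frat P p ≤ D} := Fintype.ofFinite _
    have hHtop : ∀ H : {H : Subgroup P // Nat.card H = p ^ k}, H.1 ≠ ⊤ := by
      intro H h
      have h1 := H.2
      rw [h, Subgroup.card_top, hcard] at h1
      exact (Nat.pow_right_injective hp.two_le h1 ▸ hkn).false
    -- the enumeration principle for each `H`
    have hE : ∀ H : {H : Subgroup P // Nat.card H = p ^ k},
        Nat.card {M : {M : Subgroup P // M.index = p} // H.1 ≤ M.1} ≡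
          1 + p * Nat.card {D : {D : Subgroup P // D.index = p ^ 2 ∧ frat P p ≤ D} //
            H.1 ≤ D.1} [MOD p ^ 2] := by
      intro H
      rw [Nat.card_congr (Equiv.subtypeSubtypeEquivSubtypeInter
          (fun M : Subgroup P => M.index = p) (fun M => H.1 ≤ M)),
        Nat.card_congr (Equiv.subtypeSubtypeEquivSubtypeInter
          (fun D : Subgroup P => D.index = p ^ 2 ∧ frat P p ≤ D) (fun D => H.1 ≤ D))]
      exact card_index_eq_ge_modEq hP H.1 (hHtop H)
    have hsum := sum_modEq Finset.univ _ _ (p ^ 2) (fun H _ => hE H)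
    rw [sum_card_swap (fun (H : {H : Subgroup P // Nat.card H = p ^ k})
      (M : {M : Subgroup P // M.index = p}) => H.1 ≤ M.1)] at hsum
    rw [Finset.sum_add_distrib, ← Finset.mul_sum,
      sum_card_swap (fun (H : {H : Subgroup P // Nat.card H = p ^ k})
      (D : {D : Subgroup P // D.index = p ^ 2 ∧ frat P p ≤ D}) => H.1 ≤ D.1)] at hsum
    simp only [Finset.sum_const, Finset.card_univ, smul_eq_mul, mul_one] at hsum
    -- fibres over `D`
    have hDk : ∀ D : {D : Subgroup P // D.index = p ^ 2 ∧ frat P p ≤ D},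
        Nat.card {H : {H : Subgroup P // Nat.card H = p ^ k} // H.1 ≤ D.1} ≡ 1 [MOD p] := by
      intro D
      rw [Nat.card_congr (Equiv.subtypeSubtypeEquivSubtypeInter
          (fun H : Subgroup P => Nat.card H = p ^ k) (fun H => H ≤ D.1))]
      apply card_subgroups_le_modEq_one D.1 k
      have h1 := Subgroup.card_mul_index D.1
      rw [D.2.1, hcard] at h1
      have h2 : p ^ n = p ^ (n - 2) * p ^ 2 := by rw [← pow_add]; congr 1; omega
      rw [h2] at h1
      rw [Nat.eq_of_mul_eq_mul_right (pow_pos hp.pos 2) h1]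
      exact pow_dvd_pow p (by omega)
    have hsumD := sum_modEq Finset.univ _ _ p (fun D _ => hDk D)
    simp only [Finset.sum_const, Finset.card_univ, smul_eq_mul, mul_one] at hsumD
    -- fibres over `M`
    have hMk : ∀ M : {M : Subgroup P // M.index = p},
        Nat.card {H : {H : Subgroup P // Nat.card H = p ^ k} // H.1 ≤ M.1} ≡
          1 + p * (if ¬ IsCyclic ↥M.1 then 1 else 0) [MOD p ^ 2] := by
      intro M
      rw [Nat.card_congr (Equiv.subtypeSubtypeEquivSubtypeInter
          (fun H : Subgroup P => Nat.card H = p ^ k) (fun H => H ≤ M.1)), card_subgroups_le]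
      have hMcard : Nat.card ↥M.1 = p ^ (n - 1) := (hidx M.1).mp M.2
      by_cases hc : IsCyclic ↥M.1
      · rw [if_neg (not_not.mpr hc), Cfsg.Agent.Helper66.card_subgroups_of_isCyclic p k hp
          (by rw [hMcard]; exact pow_dvd_pow p (by omega))]
        simp [Nat.ModEq]
      · rw [if_pos hc, mul_one]
        exact ih (n - 1) (by omega) ↥M.1 hMcard hc k hk1 (by omega)
    have hsumM := sum_modEq Finset.univ _ _ (p ^ 2) (fun M _ => hMk M)
    rw [Finset.sum_add_distrib, ← Finset.mul_sum, Finset.sum_boole] at hsumM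
    simp only [Finset.sum_const, Finset.card_univ, smul_eq_mul, mul_one, Nat.cast_id] at hsumM
    -- the number of non-cyclic subgroups of index `p` is `≡ 1 (mod p)`
    have hnc1 : ((Finset.univ.filter (fun M : {M : Subgroup P // M.index = p} =>
        ¬ IsCyclic ↥M.1)).card : ℕ) ≡ 1 [MOD p] := by
      have hc := card_cyclic_index_eq_dvd hp2 n (by omega) hcard hnc
      have hsplit := Finset.card_filter_add_card_filter_not
        (s := (Finset.univ : Finset {M : Subgroup P // M.index = p}))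
        (fun M : {M : Subgroup P // M.index = p} => IsCyclic ↥M.1)
      have hcyc : (Finset.univ.filter (fun M : {M : Subgroup P // M.index = p} =>
          IsCyclic ↥M.1)).card = Nat.card {M : Subgroup P // M.index = p ∧ IsCyclic ↥M} := by
        rw [← Fintype.card_subtype, ← Nat.card_eq_fintype_card]
        exact Nat.card_congr (Equiv.subtypeSubtypeEquivSubtypeInter
          (fun M : Subgroup P => M.index = p) (fun M => IsCyclic ↥M))
      have hall : Fintype.card {M : Subgroup P // M.index = p} ≡ 1 [MOD p] := by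
        rw [← Nat.card_eq_fintype_card,
          Nat.card_congr (Equiv.subtypeEquivRight (fun M => hidx M))]
        apply Cfsg.Agent.Helper66.card_subgroups_prime_pow_modEq_one p (n - 1) hp
        rw [hcard]
        exact pow_dvd_pow p (Nat.sub_le n 1)
      rw [Finset.card_univ] at hsplit
      rw [hcyc] at hsplit
      have h0 : Nat.card {M : Subgroup P // M.index = p ∧ IsCyclic ↥M} ≡ 0 [MOD p] :=
        (Nat.modEq_zero_iff_dvd).mpr hc
      have h1 : 0 + (Finset.univ.filter (fun M : {M : Subgroup P // M.index = p} =>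
          ¬ IsCyclic ↥M.1)).card ≡ 1 [MOD p] := by
        refine (Nat.ModEq.add_right _ h0.symm).trans ?_
        rw [hsplit]
        exact hall
      simpa using h1
    have h1 := (ZMod.natCast_eq_natCast_iff _ _ _).mpr hsum
    have h2 := cast_mul_eq_of_modEq hsumD
    have h4 := (ZMod.natCast_eq_natCast_iff _ _ _).mpr hsumM
    have h5 := cast_mul_eq_of_modEq hnc1
    push_cast at h1 h2 h4 h5
    rw [← Nat.card_eq_fintype_card] at h1 h2 h4
    push_cast
    linear_combination (-1 : ZMod (p ^ 2)) * h1 + h4 + h3 + h5 - h2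

end Cfsg.Agent.Helper65.Kulakoff
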