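import Mathlib
import Cfsg.Prelude.Def_GeometricClasses
import Cfsg.Prelude.Def_Classical
import Cfsg.Agent.Helper65.TSOBDefs

set_option autoImplicit false

/-!
# CALL OB (sub-call of CALL TS), piece HEX core (helper65): the model isometries of the hyperbolic
coordinate space, from a matrix `g` killed by `1 + X + … + X^(r-1)` and an invertible `B` with
`B g = gᵀ B`.
-/

namespace Cfsg.Agent.Helper65.OB

open Module Cfsg.Agent.Helper65.TSOB
open scoped Matrix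

variable {F : Type*} [Field F] {n : ℕ}

theorem hx_dot (M N : Matrix (Fin n) (Fin n) F) (a b : Fin n → F) :
    (M *ᵥ a) ⬝ᵥ (N *ᵥ b) = a ⬝ᵥ ((Mᵀ * N) *ᵥ b) := by
  rw [← Matrix.mulVec_mulVec, Matrix.mulVec_transpose, dotProduct_comm (M *ᵥ a),
    Matrix.dotProduct_mulVec, dotProduct_comm]

/-- the block-diagonal map `(a, b) ↦ (M a, N b)` -/
noncomputable def dmap (M N : Matrix (Fin n) (Fin n) F) : HSp n F →ₗ[F] HSp n F :=
  LinearMap.prodMap (Matrix.toLin' M) (Matrix.toLin' N)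

/-- the block-antidiagonal map `(a, b) ↦ (P b, R a)` -/
noncomputable def smap (P R : Matrix (Fin n) (Fin n) F) : HSp n F →ₗ[F] HSp n F :=
  LinearMap.prod (Matrix.toLin' P ∘ₗ LinearMap.snd F _ _) (Matrix.toLin' R ∘ₗ LinearMap.fst F _ _)

theorem dmap_apply (M N : Matrix (Fin n) (Fin n) F) (u : HSp n F) :
    dmap M N u = (M *ᵥ u.1, N *ᵥ u.2) := rfl

theorem smap_apply (P R : Matrix (Fin n) (Fin n) F) (u : HSp n F) :
    smap P R u = (P *ᵥ u.2, R *ᵥ u.1) := rfl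

theorem hq_dmap (M N : Matrix (Fin n) (Fin n) F) (h : Mᵀ * N = 1) (u : HSp n F) :
    hq (dmap M N u) = hq u := by
  rw [dmap_apply]
  show (M *ᵥ u.1) ⬝ᵥ (N *ᵥ u.2) = u.1 ⬝ᵥ u.2
  rw [hx_dot, h, Matrix.one_mulVec]

theorem hq_smap (P R : Matrix (Fin n) (Fin n) F) (h : Pᵀ * R = 1) (u : HSp n F) :
    hq (smap P R u) = hq u := by
  rw [smap_apply]
  show (P *ᵥ u.2) ⬝ᵥ (R *ᵥ u.1) = u.1 ⬝ᵥ u.2
  rw [hx_dot, h, Matrix.one_mulVec, dotProduct_comm]

theorem dmap_comp (M N M' N' : Matrix (Fin n) (Fin n) F) :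
    dmap M N ∘ₗ dmap M' N' = dmap (M * M') (N * N') := by
  refine LinearMap.ext fun u => ?_
  simp only [LinearMap.comp_apply, dmap_apply, Matrix.mulVec_mulVec]

theorem smap_comp_smap (P R P' R' : Matrix (Fin n) (Fin n) F) :
    smap P R ∘ₗ smap P' R' = dmap (P * R') (R * P') := by
  refine LinearMap.ext fun u => ?_
  simp only [LinearMap.comp_apply, dmap_apply, smap_apply, Matrix.mulVec_mulVec]

theorem smap_comp_dmap (P R M N : Matrix (Fin n) (Fin n) F) :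
    smap P R ∘ₗ dmap M N = smap (P * N) (R * M) := by
  refine LinearMap.ext fun u => ?_
  simp only [LinearMap.comp_apply, dmap_apply, smap_apply, Matrix.mulVec_mulVec]

theorem dmap_one : dmap (1 : Matrix (Fin n) (Fin n) F) 1 = LinearMap.id := by
  refine LinearMap.ext fun u => ?_
  simp [dmap_apply]

theorem dmap_pow (M N : Matrix (Fin n) (Fin n) F) (k : ℕ) :
    (dmap M N) ^ k = dmap (M ^ k) (N ^ k) := by
  induction k with
  | zero => rw [pow_zero, pow_zero, pow_zero, dmap_one]; rfl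
  | succ k ih => rw [pow_succ, pow_succ, pow_succ, ih, Module.End.mul_eq_comp, dmap_comp]

theorem hx_fix (M : Matrix (Fin n) (Fin n) F) (r : ℕ) (hrF : (r : F) ≠ 0)
    (hM : ∑ j ∈ Finset.range r, M ^ j = 0) (v : Fin n → F) (hv : M *ᵥ v = v) : v = 0 := by
  have hpow : ∀ j : ℕ, (M ^ j) *ᵥ v = v := by
    intro j
    induction j with
    | zero => simp
    | succ j ih => rw [pow_succ, ← Matrix.mulVec_mulVec, hv, ih]
  have h1 : (∑ j ∈ Finset.range r, M ^ j) *ᵥ v = (r : F) • v := by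
    rw [Matrix.sum_mulVec]
    rw [Finset.sum_congr rfl (fun j _ => hpow j)]
    simp [Finset.sum_const, Finset.card_range, Nat.cast_smul_eq_nsmul]
  rw [hM, Matrix.zero_mulVec] at h1
  exact (smul_eq_zero.1 h1.symm).resolve_left hrF

/-- HEX core: the model isometries, from `g` and `B`. -/
theorem ob_hex_core (r : ℕ) (hr : Odd r) (hrF : (r : F) ≠ 0)
    (hgb : ∃ g B : Matrix (Fin n) (Fin n) F, IsUnit B ∧ B * g = g.transpose * B ∧
      ∑ j ∈ Finset.range r, g ^ j = 0) :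
    ∃ X Y S Y' S' : HSp n F →ₗ[F] HSp n F,
      (∀ u, hq (Y u) = hq u) ∧ (∀ u, hq (S u) = hq u) ∧
      (∀ u, hq (Y' u) = hq u) ∧ (∀ u, hq (S' u) = hq u) ∧
      Y ∘ₗ Y' = LinearMap.id ∧ Y' ∘ₗ Y = LinearMap.id ∧
      S ∘ₗ S' = LinearMap.id ∧ S' ∘ₗ S = LinearMap.id ∧
      X = Y ∘ₗ S ∘ₗ Y' ∘ₗ S' ∧ X ^ r = 1 ∧ ∀ u, X u = u → u = 0 := by
  obtain ⟨g, B, hB, hBg, hsum⟩ := hgb
  obtain ⟨m, hm⟩ := hr
  -- r = 2 m + 1, k = m + 1
  have hgr : g ^ r = 1 := by
    have h := mul_geom_sum g r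
    rw [hsum, mul_zero] at h
    exact (sub_eq_zero.1 h.symm)
  obtain ⟨Bu, hBu⟩ := hB
  set Bi : Matrix (Fin n) (Fin n) F := Bu.inv with hBi
  have hBBi : B * Bi = 1 := by rw [← hBu, hBi]; exact Bu.val_inv
  have hBiB : Bi * B = 1 := by rw [← hBu, hBi]; exact Bu.inv_val
  set G : Matrix (Fin n) (Fin n) F := g ^ (m + 1) with hG
  set Gi : Matrix (Fin n) (Fin n) F := g ^ (r * (m + 1) - (m + 1)) with hGi
  have hle : m + 1 ≤ r * (m + 1) := by
    have : 1 ≤ r := by omega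
    nlinarith
  have hGGi : G * Gi = 1 := by
    rw [hG, hGi, ← pow_add, Nat.add_sub_cancel' hle, pow_mul, hgr, one_pow]
  have hGiG : Gi * G = 1 := by
    rw [hG, hGi, ← pow_add, Nat.sub_add_cancel hle, pow_mul, hgr, one_pow]
  have hGG : G * G = g := by
    rw [hG, ← pow_add]
    have : m + 1 + (m + 1) = r + 1 := by omega
    rw [this, pow_succ, hgr, one_mul]
  have hBG : B * G = Gᵀ * B := by
    have key : ∀ j : ℕ, B * g ^ j = (gᵀ) ^ j * B := by
      intro j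
      induction j with
      | zero => simp
      | succ j ih => rw [pow_succ, ← mul_assoc, ih, mul_assoc, hBg, ← mul_assoc, ← pow_succ]
    rw [hG, key, Matrix.transpose_pow]
  have hBGBi : B * G * Bi = Gᵀ := by rw [hBG, mul_assoc, hBBi, mul_one]
  have hBGiBi : B * Gi * Bi = Giᵀ := by
    have h1 : Giᵀ * Gᵀ = 1 := by rw [← Matrix.transpose_mul, hGGi, Matrix.transpose_one]
    have h2 : Giᵀ * B = B * Gi := by
      calc Giᵀ * B = Giᵀ * (B * (G * Gi)) := by rw [hGGi, mul_one]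
        _ = Giᵀ * (B * G * Gi) := by rw [mul_assoc]
        _ = Giᵀ * (Gᵀ * B * Gi) := by rw [hBG]
        _ = (Giᵀ * Gᵀ) * (B * Gi) := by simp only [mul_assoc]
        _ = B * Gi := by rw [h1, one_mul]
    rw [← h2, mul_assoc, hBBi, mul_one]
  have hT1 : Gᵀ * Giᵀ = 1 := by rw [← Matrix.transpose_mul, hGiG, Matrix.transpose_one]
  have hT2 : Giᵀ * Gᵀ = 1 := by rw [← Matrix.transpose_mul, hGGi, Matrix.transpose_one]
  have hT3 : Biᵀ * Bᵀ = 1 := by rw [← Matrix.transpose_mul, hBBi, Matrix.transpose_one]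
  have hT4 : Bᵀ * Biᵀ = 1 := by rw [← Matrix.transpose_mul, hBiB, Matrix.transpose_one]
  refine ⟨dmap G Giᵀ ∘ₗ dmap G Giᵀ, dmap G Giᵀ, smap Biᵀ B, dmap Gi Gᵀ, smap Bi Bᵀ,
    hq_dmap _ _ hT1, hq_smap _ _ (by rw [Matrix.transpose_transpose, hBiB]),
    hq_dmap _ _ hT2, hq_smap _ _ hT3, ?_, ?_, ?_, ?_, ?_, ?_, ?_⟩
  · rw [dmap_comp, hGGi, hT2, dmap_one]
  · rw [dmap_comp, hGiG, hT1, dmap_one]
  · rw [smap_comp_smap, hT3, hBBi, dmap_one]
  · rw [smap_comp_smap, hBiB, hT4, dmap_one]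
  · congr 1
    rw [← LinearMap.comp_assoc, smap_comp_dmap, smap_comp_smap]
    have h1 : Biᵀ * Gᵀ * Bᵀ = G := by
      rw [← Matrix.transpose_mul, ← Matrix.transpose_mul, ← mul_assoc, hBGBi,
        Matrix.transpose_transpose]
    rw [h1, hBGiBi]
  · rw [dmap_comp, dmap_pow, hGG, hgr]
    have h2 : (Giᵀ * Giᵀ) ^ r = 1 := by
      rw [← Matrix.transpose_mul, ← Matrix.transpose_pow, hGi, ← pow_add, ← pow_mul, mul_comm,
        pow_mul, hgr, one_pow, Matrix.transpose_one]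
    rw [h2, dmap_one]
    rfl
  · intro u hu
    rw [dmap_comp, dmap_apply, hGG] at hu
    have hu1 : g *ᵥ u.1 = u.1 := congrArg Prod.fst hu
    have hu2 : (Giᵀ * Giᵀ) *ᵥ u.2 = u.2 := congrArg Prod.snd hu
    have ha : u.1 = 0 := hx_fix g r hrF hsum u.1 hu1
    -- gᵀ u.2 = u.2
    have hgT : gᵀ *ᵥ u.2 = u.2 := by
      have h3 : gᵀ * (Giᵀ * Giᵀ) = 1 := by
        have h4 : Gi * Gi * g = 1 := by
          rw [← hGG, mul_assoc, ← mul_assoc Gi G G, hGiG, one_mul, hGiG]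
        rw [← Matrix.transpose_mul, ← Matrix.transpose_mul, h4, Matrix.transpose_one]
      calc gᵀ *ᵥ u.2 = gᵀ *ᵥ ((Giᵀ * Giᵀ) *ᵥ u.2) := by rw [hu2]
        _ = (gᵀ * (Giᵀ * Giᵀ)) *ᵥ u.2 := by rw [Matrix.mulVec_mulVec]
        _ = u.2 := by rw [h3, Matrix.one_mulVec]
    have hsumT : ∑ j ∈ Finset.range r, (gᵀ) ^ j = 0 := by
      have := congrArg Matrix.transpose hsum
      rw [Matrix.transpose_sum, Matrix.transpose_zero] at this
      rw [← this]
      exact Finset.sum_congr rfl (fun j _ => (Matrix.transpose_pow g j).symm)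
    have hb : u.2 = 0 := hx_fix gᵀ r hrF hsumT u.2 hgT
    exact Prod.ext ha hb

end Cfsg.Agent.Helper65.OB
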