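import Mathlib
import Cfsg.Agent.Helper87.U3Defs
import Cfsg.Agent.Helper37.S2788O
import Cfsg.Agent.Helper87.U3ZU
import Cfsg.Agent.Helper65.U3SC

set_option autoImplicit false

/-!
# CALL S2784, piece SC (helper65), verbatim statement (uses piece ZU of helper87).
-/

namespace Cfsg.Agent.Helper65

open Matrix
open Cfsg.Agent.Helper5 (frobQ frobQ_apply frobQ_frobQ)
open Cfsg.Agent.Helper99
open Cfsg.Agent.Helper87

section Model

variable {K : Type*} [Field K] [Fintype K] {q : ℕ}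

/-- PIECE SC (uses ZU). -/
theorem u3_sylow_center (hK : Fintype.card K = q ^ 2) (p : ℕ) [Fact p.Prime] [CharP K p]
    {Q : Type*} [Group Q] (ρ : ↥(suG hK 3) →* Q) (hρ : Function.Surjective ρ)
    (hker : ∀ z ∈ suU hK 3, ρ z = 1 → z = 1) (P : Sylow p Q) (x : Q) (hxP : x ∈ P)
    (hxc : ∀ y ∈ P, y * x = x * y) :
    ∃ (k : ↥(suG hK 3)) (c : K), frobQ hK c = -c ∧ x = ρ (k * su3X hK 0 c * k⁻¹) :=
  u3_sylow_center_core hK p (u3_center_suU hK p) ρ hρ hker P x hxP hxc

end Model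

end Cfsg.Agent.Helper65
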